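import Mathlib
import Cfsg.Agent.H887.SiegelMethod

/-!
# Singer elements in orthogonal groups (helper137)

`K` is a finite extension of the finite field `F`. A `SPair Q K` is a hyperbolic subspace `e K ⊕ f K` of the
quadratic space `(V, Q)` with `polar Q (e x) (f y) = Tr (x y)`. For `c ∈ Kˣ` the element `S c` acts as
multiplication by `c` on `e K`, by `c⁻¹` on `f K` and trivially on the orthogonal complement.
-/

set_option autoImplicit false

namespace Cfsg.Agent.H137

open QuadraticMap Cfsg.Agent.LieClassical.OrthCore Cfsg.Agent.LieClassical.OrthTrans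
  Cfsg.Agent.LieClassical.OrthSimple Cfsg.Agent.ClassicalGeometry.OrthAutBasic

/-! ### Additive subgroups of a finite field closed under multiplication by squares -/

section field

variable {K : Type*} [Field K]

/-- An additive subgroup of a finite field which is invariant under multiplication by nonzero squares
and not zero is everything. -/
theorem mem_of_sq_mul [Finite K] (Y : AddSubgroup K) (hY : ∀ c : K, c ≠ 0 → ∀ y ∈ Y, c ^ 2 * y ∈ Y)
    {y : K} (hy : y ∈ Y) (hy0 : y ≠ 0) (z : K) : z ∈ Y := by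
  have hY' : ∀ c : K, ∀ y ∈ Y, c ^ 2 * y ∈ Y := by
    intro c y hy
    by_cases hc : c = 0
    · rw [hc]; simp
    · exact hY c hc y hy
  have key : ∀ t : K, t * y ∈ Y := by
    intro t
    by_cases h2 : (2 : K) = 0
    · have hch : ringChar K = 2 := by
        refine CharP.ringChar_of_prime_eq_zero Nat.prime_two ?_
        exact_mod_cast h2
      obtain ⟨s, hs⟩ := FiniteField.isSquare_of_char_two hch t
      rw [hs, ← pow_two]
      exact hY' s y hy
    · have h4 : (4 : K) ≠ 0 := by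
        have : (4 : K) = 2 * 2 := by norm_num
        rw [this]
        exact mul_ne_zero h2 h2
      have e : t * y = (t / 4 + 1) ^ 2 * y - (t / 4 - 1) ^ 2 * y := by
        field_simp
        ring
      rw [e]
      exact Y.sub_mem (hY' _ y hy) (hY' _ y hy)
  have := key (z * y⁻¹)
  rwa [mul_assoc, inv_mul_cancel₀ hy0, mul_one] at this

end field

/-! ### The structure -/

variable {F V : Type*} [Field F] [AddCommGroup V] [Module F V]

/-- A hyperbolic subspace with the structure of a `K`-space. -/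
structure SPair (Q : QuadraticForm F V) (K : Type*) [Field K] [Algebra F K] where
  e : K →ₗ[F] V
  f : K →ₗ[F] V
  pe : V →ₗ[F] K
  pf : V →ₗ[F] K
  Qe : ∀ x, Q (e x) = 0
  Qf : ∀ x, Q (f x) = 0
  pf_spec : ∀ x v, polar Q (e x) v = Algebra.trace F K (x * pf v)
  pe_spec : ∀ y v, polar Q (f y) v = Algebra.trace F K (y * pe v)
  pe_e : ∀ x, pe (e x) = x
  pe_f : ∀ x, pe (f x) = 0
  pf_e : ∀ x, pf (e x) = 0
  pf_f : ∀ x, pf (f x) = x

namespace SPair

variable {Q : QuadraticForm F V} {K : Type*} [Field K] [Algebra F K] (P : SPair Q K)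

/-- The linear map `S c`. -/
def SLin (c : K) (c' : K) : V →ₗ[F] V :=
  LinearMap.id + P.e ∘ₗ (LinearMap.mulLeft F (c - 1)) ∘ₗ P.pe + P.f ∘ₗ (LinearMap.mulLeft F (c' - 1)) ∘ₗ P.pf

theorem SLin_apply (c c' : K) (v : V) :
    P.SLin c c' v = v + P.e ((c - 1) * P.pe v) + P.f ((c' - 1) * P.pf v) := rfl

theorem pe_SLin (c c' : K) (v : V) : P.pe (P.SLin c c' v) = c * P.pe v := by
  rw [SLin_apply, map_add, map_add, P.pe_e, P.pe_f]
  ring

theorem pf_SLin (c c' : K) (v : V) : P.pf (P.SLin c c' v) = c' * P.pf v := by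
  rw [SLin_apply, map_add, map_add, P.pf_e, P.pf_f]
  ring

theorem SLin_SLin (c c' d d' : K) (v : V) :
    P.SLin c c' (P.SLin d d' v) = P.SLin (c * d) (c' * d') v := by
  rw [SLin_apply, pe_SLin, pf_SLin, SLin_apply, SLin_apply]
  have e1 : (c * d - 1) * P.pe v = (d - 1) * P.pe v + (c - 1) * (d * P.pe v) := by ring
  have e2 : (c' * d' - 1) * P.pf v = (d' - 1) * P.pf v + (c' - 1) * (d' * P.pf v) := by ring
  rw [e1, e2, map_add, map_add]
  abel

theorem SLin_one (v : V) : P.SLin 1 1 v = v := by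
  rw [SLin_apply]
  simp

/-- The Singer element. -/
def S (c : Kˣ) : V ≃ₗ[F] V :=
  { P.SLin (c : K) (c⁻¹ : Kˣ) with
    invFun := P.SLin (c⁻¹ : Kˣ) (c : K)
    left_inv := by
      intro v
      show P.SLin _ _ (P.SLin _ _ v) = v
      rw [SLin_SLin, ← Units.val_mul, ← Units.val_mul, inv_mul_cancel, mul_inv_cancel, Units.val_one]
      exact P.SLin_one v
    right_inv := by
      intro v
      show P.SLin _ _ (P.SLin _ _ v) = v
      rw [SLin_SLin, ← Units.val_mul, ← Units.val_mul, inv_mul_cancel, mul_inv_cancel, Units.val_one]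
      exact P.SLin_one v }

theorem S_apply (c : Kˣ) (v : V) :
    P.S c v = v + P.e (((c : K) - 1) * P.pe v) + P.f (((c⁻¹ : Kˣ) - 1 : K) * P.pf v) := rfl

theorem S_eq (c : Kˣ) (v : V) : P.S c v = P.SLin (c : K) (c⁻¹ : Kˣ) v := rfl

theorem S_mul (c d : Kˣ) : P.S (c * d) = P.S c * P.S d := by
  ext v
  show P.S (c * d) v = P.S c (P.S d v)
  rw [S_eq, S_eq, S_eq, SLin_SLin, mul_inv, Units.val_mul, Units.val_mul]

theorem S_one : P.S 1 = 1 := by
  ext v
  show P.S 1 v = v
  rw [S_eq, inv_one, Units.val_one, SLin_one]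

/-- `S` as a homomorphism. -/
def SHom : Kˣ →* (V ≃ₗ[F] V) where
  toFun := P.S
  map_one' := P.S_one
  map_mul' := P.S_mul

theorem S_pow (c : Kˣ) (n : ℕ) : P.S (c ^ n) = P.S c ^ n := map_pow P.SHom c n

theorem S_zpow (c : Kˣ) (n : ℤ) : P.S (c ^ n) = P.S c ^ n := map_zpow P.SHom c n

theorem S_e (c : Kˣ) (x : K) : P.S c (P.e x) = P.e (c * x) := by
  rw [S_apply, P.pe_e, P.pf_e, mul_zero, map_zero, add_zero, ← map_add]
  congr 1; ring

theorem S_f (c : Kˣ) (x : K) : P.S c (P.f x) = P.f ((c⁻¹ : Kˣ) * x) := by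
  rw [S_apply, P.pe_f, P.pf_f, mul_zero, map_zero, add_zero, ← map_add]
  congr 1; ring

/-- `v` is orthogonal to the hyperbolic subspace. -/
def Perp (v : V) : Prop := P.pe v = 0 ∧ P.pf v = 0

theorem S_perp (c : Kˣ) {v : V} (h : P.Perp v) : P.S c v = v := by
  rw [S_apply, h.1, h.2, mul_zero, map_zero, mul_zero, map_zero, add_zero, add_zero]

theorem polar_e {v : V} (h : P.Perp v) (x : K) : polar Q (P.e x) v = 0 := by
  rw [P.pf_spec, h.2, mul_zero, map_zero]

theorem polar_f {v : V} (h : P.Perp v) (x : K) : polar Q (P.f x) v = 0 := by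
  rw [P.pe_spec, h.1, mul_zero, map_zero]

theorem polar_e' {v : V} (h : P.Perp v) (x : K) : polar Q v (P.e x) = 0 := by
  rw [polar_comm]; exact P.polar_e h x

theorem polar_f' {v : V} (h : P.Perp v) (x : K) : polar Q v (P.f x) = 0 := by
  rw [polar_comm]; exact P.polar_f h x

theorem polar_e_e (x y : K) : polar Q (P.e x) (P.e y) = 0 := by
  rw [P.pf_spec, P.pf_e, mul_zero, map_zero]

theorem polar_f_f (x y : K) : polar Q (P.f x) (P.f y) = 0 := by
  rw [P.pe_spec, P.pe_f, mul_zero, map_zero]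

theorem polar_e_f (x y : K) : polar Q (P.e x) (P.f y) = Algebra.trace F K (x * y) := by
  rw [P.pf_spec, P.pf_f]

theorem polar_f_e (x y : K) : polar Q (P.f x) (P.e y) = Algebra.trace F K (x * y) := by
  rw [P.pe_spec, P.pe_e]

/-- The projection to the orthogonal complement. -/
theorem perp_sub (v : V) : P.Perp (v - P.e (P.pe v) - P.f (P.pf v)) := by
  refine ⟨?_, ?_⟩
  · rw [map_sub, map_sub, P.pe_e, P.pe_f]; simp
  · rw [map_sub, map_sub, P.pf_e, P.pf_f]; simp

theorem S_mem_O (c : Kˣ) : P.S c ∈ O Q := by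
  intro v
  rw [S_apply, Q_add, Q_add, P.Qe, P.Qf, polar_add_left, polar_e_f]
  have h1 : polar Q v (P.e (((c : K) - 1) * P.pe v)) =
      Algebra.trace F K (((c : K) - 1) * P.pe v * P.pf v) := by
    rw [polar_comm, P.pf_spec]
  have h2 : polar Q v (P.f ((((c⁻¹ : Kˣ) : K) - 1) * P.pf v)) =
      Algebra.trace F K ((((c⁻¹ : Kˣ) : K) - 1) * P.pf v * P.pe v) := by
    rw [polar_comm, P.pe_spec]
  rw [h1, h2]
  have h3 : (((c : K) - 1) * P.pe v * P.pf v) + ((((c⁻¹ : Kˣ) : K) - 1) * P.pf v * P.pe v) +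
      (((c : K) - 1) * P.pe v * ((((c⁻¹ : Kˣ) : K) - 1) * P.pf v)) = 0 := by
    have hc : (c : K) * ((c⁻¹ : Kˣ) : K) = 1 := by rw [← Units.val_mul, mul_inv_cancel, Units.val_one]
    linear_combination (P.pe v * P.pf v) * hc
  have h4 := congrArg (Algebra.trace F K) h3
  rw [map_add, map_add, map_zero] at h4
  linear_combination h4

end SPair

/-! ### Squares of isometries are in `E Q` -/

theorem sq_mem_E [FiniteDimensional F V] {Q : QuadraticForm F V} (hG : Good Q) {g : V ≃ₗ[F] V}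
    (hg : g ∈ O Q) : g * g ∈ E Q := by
  have hcomm : ∀ a b : V ≃ₗ[F] V, a ∈ O Q → b ∈ O Q → a * b * a⁻¹ * b⁻¹ ∈ E Q := by
    intro a b ha hb
    rw [← hG.commutator_eq_E]
    have h := Subgroup.commutator_mem_commutator ha hb
    rwa [commutatorElement_def] at h
  have hg' := hg
  rw [O_eq_closure hG.nondeg] at hg'
  have key : g ∈ O Q ∧ g * g ∈ E Q := by
    refine Subgroup.closure_induction (p := fun g _ => g ∈ O Q ∧ g * g ∈ E Q) ?_ ?_ ?_ ?_ hg'
    · rintro x (⟨v, hv, rfl⟩ | ⟨u, w, hu, hw, rfl⟩)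
      · refine ⟨refl_mem_O hv, ?_⟩
        rw [refl_mul_self]
        exact (E Q).one_mem
      · exact ⟨siegel_mem_O hu hw, (E Q).mul_mem (siegel_mem_E hu hw) (siegel_mem_E hu hw)⟩
    · exact ⟨(O Q).one_mem, by rw [mul_one]; exact (E Q).one_mem⟩
    · rintro x y - - ⟨hx, hx'⟩ ⟨hy, hy'⟩
      refine ⟨(O Q).mul_mem hx hy, ?_⟩
      have e : x * y * (x * y) = x * x * (x⁻¹ * y * x⁻¹⁻¹ * y⁻¹) * (y * y) := by
        group
      rw [e]
      exact (E Q).mul_mem ((E Q).mul_mem hx' (hcomm _ _ ((O Q).inv_mem hx) hy)) hy'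
    · rintro x - ⟨hx, hx'⟩
      refine ⟨(O Q).inv_mem hx, ?_⟩
      rw [← mul_inv_rev]
      exact (E Q).inv_mem hx'
  exact key.2

end Cfsg.Agent.H137
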