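import Mathlib
import Cfsg.Agent.H137.Pair

/-!
# Relations between Siegel elements used for two-generation (helper137)
-/

set_option autoImplicit false

namespace Cfsg.Agent.H137

open QuadraticMap Cfsg.Agent.LieClassical.OrthCore Cfsg.Agent.LieClassical.OrthTrans
  Cfsg.Agent.LieClassical.OrthSimple Cfsg.Agent.ClassicalGeometry.OrthAutBasic
  Cfsg.Agent.H887.SiegelMethod

variable {F V : Type*} [Field F] [AddCommGroup V] [Module F V] {Q : QuadraticForm F V}
  {H : Subgroup (V ≃ₗ[F] V)}

/-- commutator of two Siegel elements with orthogonal centres -/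
theorem comm_T {x y a b : V} (hx : Q x = 0) (hy : Q y = 0) (hxy : polar Q x y = 0)
    (hxa : polar Q x a = 0) (hya : polar Q y a = 0) (hxb : polar Q x b = 0) (hyb : polar Q y b = 0)
    (h1 : T Q x a ∈ H) (h2 : T Q y b ∈ H) : T Q y ((polar Q a b) • x) ∈ H := by
  have h3 := H.mul_mem (H.mul_mem h1 h2) (H.inv_mem h1)
  rw [T_conj (T_mem_O x a), T_apply_fix hx hxa hxy (by rw [polar_comm]; exact hya),
    T_apply_perp hx hxa hxb] at h3
  have hyx : polar Q y x = 0 := by rw [polar_comm]; exact hxy
  have h4 : polar Q y (b - polar Q a b • x) = 0 := by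
    rw [polar_sub_right, hyb, polar_smul_right, hyx, smul_zero, sub_zero]
  have h5 := H.mul_mem h2 (H.inv_mem h3)
  rw [T_inv hy h4, T_mul hy hyb (by rw [polar_neg_right, h4, neg_zero])] at h5
  have e : b + -(b - polar Q a b • x) = polar Q a b • x := by abel
  rwa [e] at h5

/-- the Siegel element of a sum of centres -/
theorem T_add_left {x y z : V} (hx : Q x = 0) (hy : Q y = 0) (hxy : polar Q x y = 0)
    (hxz : polar Q x z = 0) (hyz : polar Q y z = 0) :
    T Q (x + y) z = T Q y (Q z • x) * T Q x z * T Q y z := by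
  have hyx : polar Q y x = 0 := by rw [polar_comm]; exact hxy
  have hzx : polar Q z x = 0 := by rw [polar_comm]; exact hxz
  have hzy : polar Q z y = 0 := by rw [polar_comm]; exact hyz
  have hs : Q (x + y) = 0 := by rw [Q_add, hx, hy, hxy]; simp
  have hsz : polar Q (x + y) z = 0 := by rw [polar_add_left, hxz, hyz, add_zero]
  have hyzx : polar Q y (Q z • x) = 0 := by rw [polar_smul_right, hyx, smul_zero]
  have hzz : polar Q z z = 2 * Q z := by rw [polar_self]; simp [two_mul, two_smul]
  have hxx : polar Q x x = 0 := polar_self_of_sing hx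
  have hyy : polar Q y y = 0 := polar_self_of_sing hy
  have hQx : Q (Q z • x) = 0 := by rw [QuadraticMap.map_smul, hx, smul_zero]
  ext v
  show T Q (x + y) z v = T Q y (Q z • x) (T Q x z (T Q y z v))
  set w := T Q y z v with hw
  have hw' : w = v + polar Q y v • z - polar Q z v • y - (Q z * polar Q y v) • y := T_apply hy hyz v
  have hxw : polar Q x w = polar Q x v := by
    rw [hw', polar_sub_right, polar_sub_right, polar_add_right]
    simp only [polar_smul_right, hxy, hxz, smul_zero, sub_zero, add_zero]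
  have hzw : polar Q z w = polar Q z v + polar Q y v * (2 * Q z) := by
    rw [hw', polar_sub_right, polar_sub_right, polar_add_right]
    simp only [polar_smul_right, hzy, hzz, smul_eq_mul, mul_zero, sub_zero]
  have hyw : polar Q y w = polar Q y v := by
    rw [hw', polar_sub_right, polar_sub_right, polar_add_right]
    simp only [polar_smul_right, hyy, hyz, smul_zero, sub_zero, add_zero]
  set w2 := T Q x z w with hw2
  have hw2' : w2 = w + polar Q x w • z - polar Q z w • x - (Q z * polar Q x w) • x := T_apply hx hxz w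
  have hyw2 : polar Q y w2 = polar Q y v := by
    rw [hw2', polar_sub_right, polar_sub_right, polar_add_right]
    simp only [polar_smul_right, hyx, hyz, smul_zero, sub_zero, add_zero, hyw]
  have hxw2 : polar Q x w2 = polar Q x v := by
    rw [hw2', polar_sub_right, polar_sub_right, polar_add_right]
    simp only [polar_smul_right, hxx, hxz, smul_zero, sub_zero, add_zero, hxw]
  rw [T_apply hs hsz, T_apply hy hyzx, hyw2, polar_smul_left, hxw2, hQx, hw2', hxw, hzw, hw',
    polar_add_left]
  simp only [smul_eq_mul]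
  module

/-- From one Siegel element `T y z` and the full root groups `T x (F y)`, `T x (F y')` with `y, y'` not orthogonal,
the full root group `T x (F z)`. -/
theorem full_of_single {x y y' z : V} (hx : Q x = 0) (hy : Q y = 0) (hxz : polar Q x z = 0)
    (hyz : polar Q y z = 0) (hy'z : polar Q y' z = 0) (hyy' : polar Q y y' ≠ 0)
    (h1 : y ∈ Ts Q H x) (h2 : y' ∈ Ts Q H x) (h3 : T Q y z ∈ H) : z ∈ Ts Q H x := by
  have hxy : polar Q x y = 0 := h1.1
  have hxy' : polar Q x y' = 0 := h2.1
  have hyx : polar Q y x = 0 := by rw [polar_comm]; exact hxy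
  refine ⟨hxz, fun s => ?_⟩
  have hy'y : polar Q y' y ≠ 0 := by rwa [polar_comm]
  set t : F := - s / polar Q y' y with ht
  have hg := h2.2 t
  have hxt : polar Q x (t • y') = 0 := by rw [polar_smul_right, hxy', smul_zero]
  have h4 := H.mul_mem (H.mul_mem hg h3) (H.inv_mem hg)
  have e1 : T Q x (t • y') y = y + s • x := by
    rw [T_apply_perp hx hxt hxy, polar_smul_left, smul_eq_mul, ht, div_mul_cancel₀ _ hy'y, neg_smul,
      sub_neg_eq_add]
  have e2 : T Q x (t • y') z = z :=
    T_apply_fix hx hxt hxz (by rw [polar_smul_left, hy'z, smul_zero])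
  rw [T_conj (T_mem_O _ _), e1, e2, add_comm] at h4
  have hsx : Q (s • x) = 0 := by rw [QuadraticMap.map_smul, hx, smul_zero]
  rw [T_add_left hsx hy (by rw [polar_smul_left, hxy, smul_zero])
    (by rw [polar_smul_left, hxz, smul_zero]) hyz] at h4
  have h5 : T Q y (Q z • s • x) ∈ H := by
    have h6 := (mem_Ts_comm hx hy).1 h1
    rw [smul_smul]
    exact h6.2 _
  have h7 := H.mul_mem (H.mul_mem (H.inv_mem h5) h4) (H.inv_mem h3)
  rw [T_smul_left s hx hxz] at h7
  have e3 : (T Q y (Q z • s • x))⁻¹ * (T Q y (Q z • s • x) * T Q x (s • z) * T Q y z) * (T Q y z)⁻¹ =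
      T Q x (s • z) := by group
  rwa [e3] at h7

/-- The Singer element turns one Siegel element `T x (e c)` into the full group `T x (e K)`. -/
theorem full_e {K : Type*} [Field K] [Finite K] [Algebra F K] (P : SPair Q K) {x : V} (hx : Q x = 0)
    (hxP : P.Perp x) {g : Kˣ} (hg : ∀ c : Kˣ, c ∈ Subgroup.zpowers g) (hS : P.S (g * g) ∈ H)
    {c : K} (hc : c ≠ 0) (h : T Q x (P.e c) ∈ H) (d : K) : P.e d ∈ Ts Q H x := by
  have hperp : ∀ z : K, polar Q x (P.e z) = 0 := fun z => P.polar_e' hxP z
  let Y : AddSubgroup K :=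
    { carrier := {z | T Q x (P.e z) ∈ H}
      zero_mem' := by
        show T Q x (P.e 0) ∈ H
        rw [map_zero, T_zero_right]
        exact H.one_mem
      add_mem' := by
        intro a b ha hb
        show T Q x (P.e (a + b)) ∈ H
        rw [map_add, ← T_mul hx (hperp a) (hperp b)]
        exact H.mul_mem ha hb
      neg_mem' := by
        intro a ha
        show T Q x (P.e (-a)) ∈ H
        rw [map_neg, ← T_inv hx (hperp a)]
        exact H.inv_mem ha }
  have hY : ∀ c : K, c ≠ 0 → ∀ y ∈ Y, c ^ 2 * y ∈ Y := by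
    intro c hc y hy
    obtain ⟨n, hn⟩ := Subgroup.mem_zpowers_iff.1 (hg (Units.mk0 c hc))
    have h1 : P.S (Units.mk0 c hc * Units.mk0 c hc) ∈ H := by
      have : Units.mk0 c hc * Units.mk0 c hc = (g * g) ^ n := by
        rw [← hn, mul_zpow]
      rw [this, P.S_zpow]
      exact H.zpow_mem hS n
    have h2 := H.mul_mem (H.mul_mem h1 hy) (H.inv_mem h1)
    rw [T_conj (P.S_mem_O _), P.S_perp _ hxP, P.S_e] at h2
    show T Q x (P.e (c ^ 2 * y)) ∈ H
    rw [pow_two]
    exact h2
  refine ⟨hperp d, fun s => ?_⟩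
  have h3 := mem_of_sq_mul Y hY h hc (s • d)
  have h4 : T Q x (P.e (s • d)) ∈ H := h3
  rwa [map_smul] at h4

/-- The same on the other side. -/
theorem full_f {K : Type*} [Field K] [Finite K] [Algebra F K] (P : SPair Q K) {x : V} (hx : Q x = 0)
    (hxP : P.Perp x) {g : Kˣ} (hg : ∀ c : Kˣ, c ∈ Subgroup.zpowers g) (hS : P.S (g * g) ∈ H)
    {c : K} (hc : c ≠ 0) (h : T Q x (P.f c) ∈ H) (d : K) : P.f d ∈ Ts Q H x := by
  have hperp : ∀ z : K, polar Q x (P.f z) = 0 := fun z => P.polar_f' hxP z
  let Y : AddSubgroup K :=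
    { carrier := {z | T Q x (P.f z) ∈ H}
      zero_mem' := by
        show T Q x (P.f 0) ∈ H
        rw [map_zero, T_zero_right]
        exact H.one_mem
      add_mem' := by
        intro a b ha hb
        show T Q x (P.f (a + b)) ∈ H
        rw [map_add, ← T_mul hx (hperp a) (hperp b)]
        exact H.mul_mem ha hb
      neg_mem' := by
        intro a ha
        show T Q x (P.f (-a)) ∈ H
        rw [map_neg, ← T_inv hx (hperp a)]
        exact H.inv_mem ha }
  have hY : ∀ c : K, c ≠ 0 → ∀ y ∈ Y, c ^ 2 * y ∈ Y := by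
    intro c hc y hy
    obtain ⟨n, hn⟩ := Subgroup.mem_zpowers_iff.1 (hg (Units.mk0 c hc)⁻¹)
    have h1 : P.S ((Units.mk0 c hc)⁻¹ * (Units.mk0 c hc)⁻¹) ∈ H := by
      have : (Units.mk0 c hc)⁻¹ * (Units.mk0 c hc)⁻¹ = (g * g) ^ n := by
        rw [← hn, mul_zpow]
      rw [this, P.S_zpow]
      exact H.zpow_mem hS n
    have h2 := H.mul_mem (H.mul_mem h1 hy) (H.inv_mem h1)
    rw [T_conj (P.S_mem_O _), P.S_perp _ hxP, P.S_f, ← mul_inv, inv_inv] at h2
    show T Q x (P.f (c ^ 2 * y)) ∈ H
    rw [pow_two]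
    exact h2
  refine ⟨hperp d, fun s => ?_⟩
  have h3 := mem_of_sq_mul Y hY h hc (s • d)
  have h4 : T Q x (P.f (s • d)) ∈ H := h3
  rwa [map_smul] at h4

end Cfsg.Agent.H137
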