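import Mathlib
import Cfsg.Agent.H137.SiegelRel

/-!
# Weyl elements in `E Q` (helper137)
-/

set_option autoImplicit false

namespace Cfsg.Agent.H137

open QuadraticMap Cfsg.Agent.LieClassical.OrthCore Cfsg.Agent.LieClassical.OrthTrans
  Cfsg.Agent.LieClassical.OrthSimple Cfsg.Agent.ClassicalGeometry.OrthAutBasic
  Cfsg.Agent.H887.SiegelMethod

variable {F V : Type*} [Field F] [AddCommGroup V] [Module F V] {Q : QuadraticForm F V}

/-- Two orthogonal hyperbolic pairs. -/
structure Hyp2 (Q : QuadraticForm F V) (x x' y y' : V) : Prop where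
  hx : Hyp Q x x'
  hy : Hyp Q y y'
  xy : polar Q x y = 0
  xy' : polar Q x y' = 0
  x'y : polar Q x' y = 0
  x'y' : polar Q x' y' = 0

/-- The element `x ↦ y ↦ -x`, `x' ↦ y' ↦ -x'`. -/
noncomputable def nn (Q : QuadraticForm F V) (x x' y y' : V) : V ≃ₗ[F] V :=
  T Q x' y * T Q x y' * T Q x' y

theorem nn_mem_E (x x' y y' : V) : nn Q x x' y y' ∈ E Q :=
  E_mul (E_mul (T_mem_E _ _) (T_mem_E _ _)) (T_mem_E _ _)

theorem nn_apply (x x' y y' v : V) : nn Q x x' y y' v = T Q x' y (T Q x y' (T Q x' y v)) := rfl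

theorem Hyp2.swap {x x' y y' : V} (h : Hyp2 Q x x' y y') :
    polar Q y x = 0 ∧ polar Q y' x = 0 ∧ polar Q y x' = 0 ∧ polar Q y' x' = 0 :=
  ⟨by rw [polar_comm]; exact h.xy, by rw [polar_comm]; exact h.xy', by rw [polar_comm]; exact h.x'y,
    by rw [polar_comm]; exact h.x'y'⟩

theorem nn_x {x x' y y' : V} (h : Hyp2 Q x x' y y') : nn Q x x' y y' x = y := by
  obtain ⟨h1, h2, h3, h4⟩ := h.swap
  have e1 : T Q x' y x = x + y := by
    rw [T_apply h.hx.right h.x'y, h.hx.pair', h1, h.hy.left]; simp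
  have e2 : T Q x y' (x + y) = y := by
    rw [T_apply h.hx.left h.xy', polar_add_right, h.hx.polar_left, h.xy, polar_add_right, h2, h.hy.pair',
      h.hy.right]
    simp
  have e3 : T Q x' y y = y := by
    rw [T_apply h.hx.right h.x'y, h.x'y, h.hy.polar_left, h.hy.left]; simp
  rw [nn_apply, e1, e2, e3]

theorem nn_y {x x' y y' : V} (h : Hyp2 Q x x' y y') : nn Q x x' y y' y = -x := by
  obtain ⟨h1, h2, h3, h4⟩ := h.swap
  have e1 : T Q x' y x = x + y := by
    rw [T_apply h.hx.right h.x'y, h.hx.pair', h1, h.hy.left]; simp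
  have e2 : T Q x y' y = y - x := by
    rw [T_apply h.hx.left h.xy', h.xy, h.hy.pair', h.hy.right]
    simp
  have e3 : T Q x' y y = y := by
    rw [T_apply h.hx.right h.x'y, h.x'y, h.hy.polar_left, h.hy.left]; simp
  rw [nn_apply, e3, e2, map_sub, e3, e1]
  abel

theorem nn_x' {x x' y y' : V} (h : Hyp2 Q x x' y y') : nn Q x x' y y' x' = y' := by
  obtain ⟨h1, h2, h3, h4⟩ := h.swap
  have e1 : T Q x' y x' = x' := T_apply_self h.hx.right h.x'y
  have e2 : T Q x y' x' = x' + y' := by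
    rw [T_apply h.hx.left h.xy', h.hx.pair, h4, h.hy.right]
    simp
  have e3 : T Q x' y y' = y' - x' := by
    rw [T_apply h.hx.right h.x'y, h.x'y', h.hy.pair, h.hy.left]; simp
  rw [nn_apply, e1, e2, map_add, e1, e3]
  abel

theorem nn_y' {x x' y y' : V} (h : Hyp2 Q x x' y y') : nn Q x x' y y' y' = -x' := by
  obtain ⟨h1, h2, h3, h4⟩ := h.swap
  have e1 : T Q x' y x' = x' := T_apply_self h.hx.right h.x'y
  have e2 : T Q x y' x' = x' + y' := by
    rw [T_apply h.hx.left h.xy', h.hx.pair, h4, h.hy.right]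
    simp
  have e3 : T Q x' y y' = y' - x' := by
    rw [T_apply h.hx.right h.x'y, h.x'y', h.hy.pair, h.hy.left]; simp
  have e4 : T Q x y' y' = y' := by
    rw [T_apply h.hx.left h.xy', h.xy', h.hy.polar_right, h.hy.right]; simp
  rw [nn_apply, e3, map_sub, e4, e2, map_sub, map_add, e3, e1]
  abel

theorem nn_fix {x x' y y' v : V} (h : Hyp2 Q x x' y y') (h1 : polar Q x v = 0) (h2 : polar Q x' v = 0)
    (h3 : polar Q y v = 0) (h4 : polar Q y' v = 0) : nn Q x x' y y' v = v := by
  have e1 : T Q x' y v = v := T_apply_fix h.hx.right h.x'y h2 h3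
  have e2 : T Q x y' v = v := T_apply_fix h.hx.left h.xy' h1 h4
  rw [nn_apply, e1, e2, e1]

/-- The product of the reflections in `x + c x'` and `d`, `Q d = c`. -/
theorem exists_rr (hG : Good Q) {x x' d : V} (hx : Hyp Q x x') (hxd : polar Q x d = 0)
    (hx'd : polar Q x' d = 0) {c : F} (hc : c ≠ 0) (hd : Q d = c) :
    ∃ r ∈ E Q, r x = -(c • x') ∧ r x' = -(c⁻¹ • x) ∧
      (∀ v, polar Q x v = 0 → polar Q x' v = 0 → r v = v - (c⁻¹ * polar Q d v) • d) := by
  have hv : Q (x + c • x') = c := by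
    rw [Q_add, hx.left, QuadraticMap.map_smul, hx.right, polar_smul_right, hx.pair]; simp
  have hv0 : Q (x + c • x') ≠ 0 := by rw [hv]; exact hc
  have hd0 : Q d ≠ 0 := by rw [hd]; exact hc
  have hdx : polar Q d x = 0 := by rw [polar_comm]; exact hxd
  have hdx' : polar Q d x' = 0 := by rw [polar_comm]; exact hx'd
  refine ⟨refl Q (x + c • x') hv0 * refl Q d hd0, hG.refl_mul_refl_mem hd0 hv0 (by rw [hv, hd]), ?_, ?_, ?_⟩
  · show refl Q (x + c • x') hv0 (refl Q d hd0 x) = _
    rw [refl_apply hd0, hdx, mul_zero, zero_smul, sub_zero, refl_apply, hv, polar_add_left, polar_smul_left,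
      hx.polar_left, hx.pair', smul_eq_mul, mul_one, zero_add, inv_mul_cancel₀ hc, one_smul]
    abel
  · show refl Q (x + c • x') hv0 (refl Q d hd0 x') = _
    rw [refl_apply hd0, hdx', mul_zero, zero_smul, sub_zero, refl_apply, hv, polar_add_left, polar_smul_left,
      hx.polar_right, hx.pair, smul_eq_mul, mul_zero, add_zero, mul_one, smul_add, smul_smul,
      inv_mul_cancel₀ hc, one_smul]
    abel
  · intro v h1 h2
    show refl Q (x + c • x') hv0 (refl Q d hd0 v) = _
    rw [refl_apply hd0, hd]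
    rw [refl_apply, hv]
    have : polar Q (x + c • x') (v - (c⁻¹ * polar Q d v) • d) = 0 := by
      rw [polar_sub_right, polar_smul_right, polar_add_left, polar_add_left, polar_smul_left, polar_smul_left,
        h1, h2, hxd, hx'd]
      simp
    rw [this]; simp

end Cfsg.Agent.H137
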