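import Mathlib
import Cfsg.Agent.H137.OrthWeyl

/-!
# `E Q` is generated by two elements (helper137)
-/

set_option autoImplicit false

namespace Cfsg.Agent.H137

open QuadraticMap Cfsg.Agent.LieClassical.OrthCore Cfsg.Agent.LieClassical.OrthTrans
  Cfsg.Agent.LieClassical.OrthSimple Cfsg.Agent.ClassicalGeometry.OrthAutBasic
  Cfsg.Agent.H887.SiegelMethod

/-- Commuting elements of coprime orders are powers of their product. -/
theorem mem_of_mul_coprime {G : Type*} [Group G] {H : Subgroup G} {a b : G} (h : Commute a b) {m n : ℕ}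
    (hmn : Nat.Coprime m n) (ha : a ^ m = 1) (hb : b ^ n = 1) (hab : a * b ∈ H) : a ∈ H ∧ b ∈ H := by
  have key : b ∈ H := by
    obtain ⟨u, v, huv⟩ := Nat.isCoprime_iff_coprime.2 hmn
    have h1 : (a * b) ^ m ∈ H := H.pow_mem hab m
    rw [h.mul_pow, ha, one_mul] at h1
    have h2 : b = (b ^ m) ^ u := by
      calc b = b ^ (u * (m : ℤ) + v * (n : ℤ)) := by rw [huv, zpow_one]
        _ = (b ^ m) ^ u * (b ^ n) ^ v := by
            rw [zpow_add, mul_comm u, mul_comm v, zpow_mul, zpow_mul, zpow_natCast, zpow_natCast]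
        _ = (b ^ m) ^ u := by rw [hb, one_zpow, mul_one]
    rw [h2]
    exact H.zpow_mem h1 u
  refine ⟨?_, key⟩
  have := H.mul_mem hab (H.inv_mem key)
  rwa [mul_inv_cancel_right] at this

variable {F V : Type*} [Field F] [AddCommGroup V] [Module F V] {Q : QuadraticForm F V}

/-- Transport of `y ∈ Ts u` by an element `w` of `H`. -/
theorem shift {H : Subgroup (V ≃ₗ[F] V)} {w : V ≃ₗ[F] V} (hw : w ∈ H) (hwO : w ∈ O Q) {u y u' y' : V} {a b : F}
    (h : y ∈ Ts Q H u) (ha : a ≠ 0) (hb : b ≠ 0) (hu : w u = a • u') (hy : w y = b • y') (hu' : Q u' = 0) :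
    y' ∈ Ts Q H u' := by
  have h1 := map_mem_Ts hw hwO h
  rw [hu, hy, Ts_smul ha hu'] at h1
  have h2 := (Ts Q H u').smul_mem b⁻¹ h1
  rwa [smul_smul, inv_mul_cancel₀ hb, one_smul] at h2

/-- Transport of one Siegel element. -/
theorem shiftT {H : Subgroup (V ≃ₗ[F] V)} {w : V ≃ₗ[F] V} (hw : w ∈ H) (hwO : w ∈ O Q) {u z u' z' : V} {a b : F}
    (h : T Q u (b • z) ∈ H) (hu : w u = a • u') (hz : w z = z') (hu' : Q u' = 0) (huz : polar Q u' z' = 0) :
    T Q u' ((a * b) • z') ∈ H := by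
  have h1 := H.mul_mem (H.mul_mem hw h) (H.inv_mem hw)
  rw [T_conj hwO, hu, map_smul, hz, T_smul_left a hu' (by rw [polar_smul_right, huz, smul_zero]),
    smul_smul] at h1
  exact h1

/-- The group generated by the Singer element, one Siegel element and a Weyl element contains `E Q`. -/
theorem E_le_of_three [FiniteDimensional F V] (hG : Good Q) {H : Subgroup (V ≃ₗ[F] V)} (hHO : H ≤ O Q)
    {K : Type*} [Field K] [Finite K] [Algebra F K] (P : SPair Q K)
    {e0 f0 : V} (h0 : Hyp Q e0 f0) (he0 : P.Perp e0) (hf0 : P.Perp f0)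
    {x1 x2 y1 y2 : K} (h11 : Algebra.trace F K (x1 * y1) = 1) (h12 : Algebra.trace F K (x1 * y2) = 0)
    (h21 : Algebra.trace F K (x2 * y1) = 0) (h22 : Algebra.trace F K (x2 * y2) = 1)
    {d d' : V} (hd : P.Perp d) (hd' : P.Perp d') (hed : polar Q e0 d = 0) (hfd : polar Q f0 d = 0)
    (hed' : polar Q e0 d' = 0) (hfd' : polar Q f0 d' = 0)
    (hcond : polar Q d' d ≠ 0 ∨ polar Q d d ≠ 0)
    (hspan : ∀ v, P.Perp v → polar Q e0 v = 0 → polar Q f0 v = 0 → v ∈ Submodule.span F {d, d'})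
    {g : Kˣ} (hg : ∀ c : Kˣ, c ∈ Subgroup.zpowers g) (hS : P.S (g * g) ∈ H) (hτ : T Q e0 d ∈ H)
    {r : V ≃ₗ[F] V} {c : F} (hc : c ≠ 0) (hre : r e0 = -(c • f0)) (hrf : r f0 = -(c⁻¹ • e0))
    (hre1 : r (P.e x1) = P.e x1) (hre2 : r (P.e x2) = P.e x2) (hrf1 : r (P.f y1) = P.f y1)
    (hrf2 : r (P.f y2) = P.f y2) (hrd : r d = d') (hrd' : r d' = d)
    (hw : nn Q (P.e x1) (P.f y1) (P.e x2) (P.f y2) * nn Q e0 f0 (P.e x1) (P.f y1) * r ∈ H) :
    E Q ≤ H := by
  set e1 := P.e x1 with he1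
  set e2 := P.e x2 with he2
  set f1 := P.f y1 with hf1
  set f2 := P.f y2 with hf2
  set w := nn Q e1 f1 e2 f2 * nn Q e0 f0 e1 f1 * r with hwdef
  have hwO : w ∈ O Q := hHO hw
  -- the polar form
  have p11 : polar Q e1 f1 = 1 := by rw [he1, hf1, P.polar_e_f, h11]
  have p12 : polar Q e1 f2 = 0 := by rw [he1, hf2, P.polar_e_f, h12]
  have p21 : polar Q e2 f1 = 0 := by rw [he2, hf1, P.polar_e_f, h21]
  have p22 : polar Q e2 f2 = 1 := by rw [he2, hf2, P.polar_e_f, h22]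
  have q1 : Q e1 = 0 := P.Qe _
  have q2 : Q e2 = 0 := P.Qe _
  have q3 : Q f1 = 0 := P.Qf _
  have q4 : Q f2 = 0 := P.Qf _
  have q5 : Q e0 = 0 := h0.left
  have q6 : Q f0 = 0 := h0.right
  have H12 : Hyp2 Q e1 f1 e2 f2 := by
    refine ⟨⟨q1, q3, p11⟩, ⟨q2, q4, p22⟩, P.polar_e_e _ _, p12, ?_, P.polar_f_f _ _⟩
    rw [polar_comm]; exact p21
  have H01 : Hyp2 Q e0 f0 e1 f1 :=
    ⟨h0, ⟨q1, q3, p11⟩, P.polar_e' he0 _, P.polar_f' he0 _, P.polar_e' hf0 _, P.polar_f' hf0 _⟩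
  have wapp : ∀ v, w v = nn Q e1 f1 e2 f2 (nn Q e0 f0 e1 f1 (r v)) := fun v => rfl
  -- the action of `w`
  have we0 : w e0 = (-c) • f2 := by
    rw [wapp, hre, map_neg, map_smul, nn_x' H01, map_neg, map_smul, nn_x' H12, neg_smul]
  have wf0 : w f0 = (-c⁻¹) • e2 := by
    rw [wapp, hrf, map_neg, map_smul, nn_x H01, map_neg, map_smul, nn_x H12, neg_smul]
  have we1 : w e1 = (-1 : F) • e0 := by
    rw [wapp, hre1, nn_y H01, map_neg, nn_fix H12 (P.polar_e he0 _) (P.polar_f he0 _) (P.polar_e he0 _)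
      (P.polar_f he0 _), neg_smul, one_smul]
  have wf1 : w f1 = (-1 : F) • f0 := by
    rw [wapp, hrf1, nn_y' H01, map_neg, nn_fix H12 (P.polar_e hf0 _) (P.polar_f hf0 _) (P.polar_e hf0 _)
      (P.polar_f hf0 _), neg_smul, one_smul]
  have we2 : w e2 = (-1 : F) • e1 := by
    rw [wapp, hre2, nn_fix H01 (P.polar_e' he0 _) (P.polar_e' hf0 _) (P.polar_e_e _ _) H12.x'y, nn_y H12,
      neg_smul, one_smul]
  have wf2 : w f2 = (-1 : F) • f1 := by
    rw [wapp, hrf2, nn_fix H01 (P.polar_f' he0 _) (P.polar_f' hf0 _) p12 (P.polar_f_f _ _), nn_y' H12,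
      neg_smul, one_smul]
  have wd : w d = d' := by
    rw [wapp, hrd, nn_fix H01 hed' hfd' (P.polar_e hd' _) (P.polar_f hd' _),
      nn_fix H12 (P.polar_e hd' _) (P.polar_f hd' _) (P.polar_e hd' _) (P.polar_f hd' _)]
  have wd' : w d' = d := by
    rw [wapp, hrd', nn_fix H01 hed hfd (P.polar_e hd _) (P.polar_f hd _),
      nn_fix H12 (P.polar_e hd _) (P.polar_f hd _) (P.polar_e hd _) (P.polar_f hd _)]
  have hc' : -c ≠ 0 := neg_ne_zero.2 hc
  have hci : -c⁻¹ ≠ 0 := neg_ne_zero.2 (inv_ne_zero hc)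
  have h1n : (-1 : F) ≠ 0 := neg_ne_zero.2 one_ne_zero
  -- the Siegel elements
  have t0 : T Q e0 ((1 : F) • d) ∈ H := by rwa [one_smul]
  have t1 : T Q f2 ((-c * 1) • d') ∈ H := shiftT hw hwO t0 we0 wd q4 (P.polar_f hd' _)
  have t2 : T Q f1 ((-1 * (-c * 1)) • d) ∈ H := shiftT hw hwO t1 wf2 wd' q3 (P.polar_f hd _)
  have t3 : T Q f0 ((-1 * (-1 * (-c * 1))) • d') ∈ H := shiftT hw hwO t2 wf1 wd q6 hfd'
  have t4 : T Q e2 ((-c⁻¹ * (-1 * (-1 * (-c * 1)))) • d) ∈ H :=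
    shiftT hw hwO t3 wf0 wd' q2 (P.polar_e hd _)
  have t4' : T Q e2 ((1 : F) • d) ∈ H := by
    have e : -c⁻¹ * (-1 * (-1 * (-c * 1))) = 1 := by field_simp
    rwa [e] at t4
  have t5 : T Q e1 ((-1 * 1 : F) • d') ∈ H := shiftT hw hwO t4' we2 wd q1 (P.polar_e hd' _)
  rw [one_smul] at t4'
  -- `T e0 (e K)`
  have x10 : x1 ≠ 0 := by
    intro h
    rw [h, zero_mul, map_zero] at h11
    exact zero_ne_one h11
  have x20 : x2 ≠ 0 := by
    intro h
    rw [h, zero_mul, map_zero] at h22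
    exact zero_ne_one h22
  have y10 : y1 ≠ 0 := by
    intro h
    rw [h, mul_zero, map_zero] at h11
    exact zero_ne_one h11
  have hU : ∀ z : K, P.e z ∈ Ts Q H e0 := by
    rcases hcond with h | h
    · have h1 := comm_T (Q := Q) (H := H) q1 q5 (P.polar_e he0 _)
        (by rw [polar_smul_right, P.polar_e hd', smul_zero]) (by rw [polar_smul_right, hed', smul_zero])
        (P.polar_e hd _) hed t5 hτ
      rw [he1, ← map_smul] at h1
      have h2 : polar Q ((-1 * 1 : F) • d') d • x1 ≠ 0 := by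
        rw [polar_smul_left]
        refine smul_ne_zero ?_ x10
        rw [smul_eq_mul]
        exact mul_ne_zero (by simp) h
      intro z
      exact full_e P q5 he0 hg hS h2 h1 z
    · have h1 := comm_T (Q := Q) (H := H) q2 q5 (P.polar_e he0 _) (P.polar_e hd _) hed
        (P.polar_e hd _) hed t4' hτ
      rw [he2, ← map_smul] at h1
      have h2 : polar Q d d • x2 ≠ 0 := smul_ne_zero h x20
      intro z
      exact full_e P q5 he0 hg hS h2 h1 z
  -- the relations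
  have r1 : e0 ∈ Ts Q H f2 := shift hw hwO (hU x1) hc' h1n we0 we1 q4
  have r2 : f2 ∈ Ts Q H f1 := shift hw hwO r1 h1n hc' wf2 we0 q3
  have r3 : f1 ∈ Ts Q H f0 := shift hw hwO r2 h1n h1n wf1 wf2 q6
  have s1 : e1 ∈ Ts Q H f2 := shift hw hwO (hU x2) hc' h1n we0 we2 q4
  have s2 : e0 ∈ Ts Q H f1 := shift hw hwO s1 h1n h1n wf2 we1 q3
  have s3 : f2 ∈ Ts Q H f0 := shift hw hwO s2 h1n hc' wf1 we0 q6
  have s4 : f1 ∈ Ts Q H e2 := shift hw hwO s3 hci h1n wf0 wf2 q2
  have s5 : f0 ∈ Ts Q H e1 := shift hw hwO s4 h1n h1n we2 wf1 q1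
  have hU' : ∀ z : K, P.f z ∈ Ts Q H e0 := fun z =>
    full_f P q5 he0 hg hS y10 (Ts_mem ((mem_Ts_comm q3 q5).1 s2)) z
  have hV' : ∀ z : K, P.f z ∈ Ts Q H f0 := fun z => full_f P q6 hf0 hg hS y10 (Ts_mem r3) z
  have hV : ∀ z : K, P.e z ∈ Ts Q H f0 := fun z =>
    full_e P q6 hf0 hg hS x10 (Ts_mem ((mem_Ts_comm q1 q6).1 s5)) z
  -- the anisotropic part
  have p11' : polar Q f1 e1 = 1 := by rw [polar_comm]; exact p11
  have hde : d ∈ Ts Q H e0 := by
    have h1 := full_of_single (y := f1) (y' := e1) q5 q3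
      (by rw [polar_smul_right, hed, smul_zero]) (by rw [polar_smul_right, P.polar_f hd, smul_zero])
      (by rw [polar_smul_right, P.polar_e hd, smul_zero]) (by rw [p11']; exact one_ne_zero) (hU' y1) (hU x1) t2
    have h2 := (Ts Q H e0).smul_mem (c⁻¹) h1
    have e : c⁻¹ * (-1 * (-c * 1)) = 1 := by field_simp
    rwa [smul_smul, e, one_smul] at h2
  have hd'e : d' ∈ Ts Q H e0 := by
    have h1 := full_of_single (y := e1) (y' := f1) q5 q1
      (by rw [polar_smul_right, hed', smul_zero]) (by rw [polar_smul_right, P.polar_e hd', smul_zero])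
      (by rw [polar_smul_right, P.polar_f hd', smul_zero]) (by rw [p11]; exact one_ne_zero) (hU x1) (hU' y1) t5
    have h2 := (Ts Q H e0).smul_mem (-1 : F) h1
    rwa [smul_smul, mul_one, neg_one_mul, neg_neg, one_smul] at h2
  have wd1 : w d = (1 : F) • d' := by rw [one_smul]; exact wd
  have wd1' : w d' = (1 : F) • d := by rw [one_smul]; exact wd'
  have one0 : (1 : F) ≠ 0 := one_ne_zero
  have hd'f : d' ∈ Ts Q H f0 :=
    shift hw hwO (shift hw hwO (shift hw hwO hde hc' one0 we0 wd1 q4) h1n one0 wf2 wd1' q3) h1n one0 wf1 wd1 q6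
  have hdf : d ∈ Ts Q H f0 :=
    shift hw hwO (shift hw hwO (shift hw hwO hd'e hc' one0 we0 wd1' q4) h1n one0 wf2 wd1 q3) h1n one0 wf1 wd1' q6
  -- conclusion
  refine E_le_of_Ts hG q5 q6 (by rw [h0.pair]; exact one_ne_zero) ?_ ?_
  · intro v hv
    have hv1 : P.Perp (v - P.e (P.pe v) - P.f (P.pf v)) := P.perp_sub v
    have hv2 : polar Q e0 (v - P.e (P.pe v) - P.f (P.pf v)) = 0 := by
      rw [polar_sub_right, polar_sub_right, P.polar_e' he0, P.polar_f' he0, hv, sub_zero, sub_zero]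
    set v1 := v - P.e (P.pe v) - P.f (P.pf v) with hv1def
    have hv3 : v1 - polar Q f0 v1 • e0 ∈ Submodule.span F {d, d'} := by
      apply hspan
      · exact ⟨by rw [map_sub, map_smul, hv1.1, he0.1, smul_zero, sub_zero],
          by rw [map_sub, map_smul, hv1.2, he0.2, smul_zero, sub_zero]⟩
      · rw [polar_sub_right, hv2, polar_smul_right, h0.polar_left, smul_zero, sub_zero]
      · rw [polar_sub_right, polar_smul_right, h0.pair', smul_eq_mul, mul_one, sub_self]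
    have hv4 : v1 - polar Q f0 v1 • e0 ∈ Ts Q H e0 := by
      refine (Submodule.span_le.2 ?_) hv3
      rintro x (rfl | rfl)
      · exact hde
      · exact hd'e
    have hv5 : v = (v1 - polar Q f0 v1 • e0) + polar Q f0 v1 • e0 + P.e (P.pe v) + P.f (P.pf v) := by
      rw [hv1def]; abel
    rw [hv5]
    exact (Ts Q H e0).add_mem ((Ts Q H e0).add_mem ((Ts Q H e0).add_mem hv4
      ((Ts Q H e0).smul_mem _ (self_mem_Ts q5))) (hU _)) (hU' _)
  · intro v hv
    have hv1 : P.Perp (v - P.e (P.pe v) - P.f (P.pf v)) := P.perp_sub v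
    have hv2 : polar Q f0 (v - P.e (P.pe v) - P.f (P.pf v)) = 0 := by
      rw [polar_sub_right, polar_sub_right, P.polar_e' hf0, P.polar_f' hf0, hv, sub_zero, sub_zero]
    set v1 := v - P.e (P.pe v) - P.f (P.pf v) with hv1def
    have hv3 : v1 - polar Q e0 v1 • f0 ∈ Submodule.span F {d, d'} := by
      apply hspan
      · exact ⟨by rw [map_sub, map_smul, hv1.1, hf0.1, smul_zero, sub_zero],
          by rw [map_sub, map_smul, hv1.2, hf0.2, smul_zero, sub_zero]⟩
      · rw [polar_sub_right, polar_smul_right, h0.pair, smul_eq_mul, mul_one, sub_self]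
      · rw [polar_sub_right, hv2, polar_smul_right, h0.polar_right, smul_zero, sub_zero]
    have hv4 : v1 - polar Q e0 v1 • f0 ∈ Ts Q H f0 := by
      refine (Submodule.span_le.2 ?_) hv3
      rintro x (rfl | rfl)
      · exact hdf
      · exact hd'f
    have hv5 : v = (v1 - polar Q e0 v1 • f0) + polar Q e0 v1 • f0 + P.e (P.pe v) + P.f (P.pf v) := by
      rw [hv1def]; abel
    rw [hv5]
    exact (Ts Q H f0).add_mem ((Ts Q H f0).add_mem ((Ts Q H f0).add_mem hv4
      ((Ts Q H f0).smul_mem _ (self_mem_Ts q6))) (hV _)) (hV' _)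

end Cfsg.Agent.H137
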