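import Mathlib
import Cfsg.Agent.H137.OrthMain

/-!
# `E Q` is generated by two elements (helper137)
-/

set_option autoImplicit false

namespace Cfsg.Agent.H137

open QuadraticMap Cfsg.Agent.LieClassical.OrthCore Cfsg.Agent.LieClassical.OrthTrans
  Cfsg.Agent.LieClassical.OrthSimple Cfsg.Agent.ClassicalGeometry.OrthAutBasic
  Cfsg.Agent.H887.SiegelMethod

variable {F V : Type*} [Field F] [AddCommGroup V] [Module F V] {Q : QuadraticForm F V}

/-- the characteristic is prime to the order of the multiplicative group of an extension -/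
theorem coprime_card_units (F : Type*) [Field F] (K : Type*) [Field K] [Finite K] [Algebra F K] :
    Nat.Coprime (Nat.card Kˣ) (ringChar F) := by
  have : Fintype K := Fintype.ofFinite K
  have h1 : ringChar F = ringChar K := Algebra.ringChar_eq F K
  rw [h1]
  have hp : (ringChar K).Prime := CharP.char_is_prime K _
  have h2 : ringChar K ∣ Fintype.card K := by
    have h3 : ((Fintype.card K : ℕ) : K) = 0 := FiniteField.cast_card_eq_zero K
    exact (ringChar.spec K _).1 h3
  rw [Nat.card_units, Nat.card_eq_fintype_card]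
  rw [Nat.coprime_comm, hp.coprime_iff_not_dvd]
  intro h4
  have h5 : 1 ≤ Fintype.card K := Fintype.card_pos
  have h6 : ringChar K ∣ Fintype.card K - (Fintype.card K - 1) := Nat.dvd_sub h2 h4
  rw [Nat.sub_sub_self h5] at h6
  exact hp.one_lt.ne' (Nat.dvd_one.1 h6)

/-- **Two-generation of `E Q`**: the abstract form. -/
theorem two_gen_E [FiniteDimensional F V] (hG : Good Q)
    {K : Type*} [Field K] [Finite K] [Algebra F K] (P : SPair Q K)
    {e0 f0 : V} (h0 : Hyp Q e0 f0) (he0 : P.Perp e0) (hf0 : P.Perp f0)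
    {x1 x2 y1 y2 : K} (h11 : Algebra.trace F K (x1 * y1) = 1) (h12 : Algebra.trace F K (x1 * y2) = 0)
    (h21 : Algebra.trace F K (x2 * y1) = 0) (h22 : Algebra.trace F K (x2 * y2) = 1)
    {d0 d : V} (hd0 : P.Perp d0) (hd : P.Perp d) (hed0 : polar Q e0 d0 = 0) (hfd0 : polar Q f0 d0 = 0)
    (hed : polar Q e0 d = 0) (hfd : polar Q f0 d = 0) (hQ0 : Q d0 ≠ 0) (hdd : polar Q d0 d ≠ 0)
    (hspan : ∀ v, P.Perp v → polar Q e0 v = 0 → polar Q f0 v = 0 → v ∈ Submodule.span F {d0, d}) :
    ∃ a b : V ≃ₗ[F] V, a ∈ E Q ∧ b ∈ E Q ∧ E Q ≤ Subgroup.closure {a, b} := by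
  obtain ⟨g, hg⟩ := IsCyclic.exists_generator (α := Kˣ)
  set d' : V := d - ((Q d0)⁻¹ * polar Q d0 d) • d0 with hd'
  obtain ⟨r, hrE, hre, hrf, hr⟩ := exists_rr hG h0 hed0 hfd0 hQ0 rfl
  set w := nn Q (P.e x1) (P.f y1) (P.e x2) (P.f y2) * nn Q e0 f0 (P.e x1) (P.f y1) * r with hw
  have hwE : w ∈ E Q := E_mul (E_mul (nn_mem_E _ _ _ _) (nn_mem_E _ _ _ _)) hrE
  have hSE : P.S (g * g) ∈ E Q := by
    rw [P.S_mul]; exact sq_mem_E hG (P.S_mem_O g)
  have haE : P.S (g * g) * T Q e0 d ∈ E Q := E_mul hSE (T_mem_E _ _)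
  refine ⟨P.S (g * g) * T Q e0 d, w, haE, hwE, ?_⟩
  set H := Subgroup.closure {P.S (g * g) * T Q e0 d, w} with hH
  have ha : P.S (g * g) * T Q e0 d ∈ H := Subgroup.subset_closure (by simp)
  have hwH : w ∈ H := Subgroup.subset_closure (by simp)
  have hHO : H ≤ O Q := by
    rw [hH, Subgroup.closure_le]
    rintro x (rfl | rfl)
    · exact E_le_O haE
    · exact E_le_O hwE
  -- coprime orders
  have hcomm : Commute (P.S (g * g)) (T Q e0 d) := by
    have h1 := T_conj (P.S_mem_O (g * g)) e0 d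
    rw [P.S_perp _ he0, P.S_perp _ hd, mul_inv_eq_iff_eq_mul] at h1
    exact h1
  have hS1 : P.S (g * g) ^ Nat.card Kˣ = 1 := by
    rw [← P.S_pow, pow_card_eq_one', P.S_one]
  have hT1 : T Q e0 d ^ ringChar F = 1 := by
    rw [T_pow h0.left hed, ← Nat.cast_smul_eq_nsmul F, CharP.cast_eq_zero, zero_smul, T_zero_right]
  obtain ⟨hS, hτ⟩ := mem_of_mul_coprime hcomm (coprime_card_units F K) hS1 hT1 ha
  -- the action of `r`
  have hdd0 : polar Q d0 d0 = 2 * Q d0 := polar_self' d0
  have hpd' : polar Q d0 d' = - polar Q d0 d := by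
    rw [hd', polar_sub_right, polar_smul_right, hdd0, smul_eq_mul]
    field_simp
    ring
  have hd'P : P.Perp d' := by
    refine ⟨?_, ?_⟩
    · rw [hd', map_sub, map_smul, hd.1, hd0.1, smul_zero, sub_zero]
    · rw [hd', map_sub, map_smul, hd.2, hd0.2, smul_zero, sub_zero]
  have hed' : polar Q e0 d' = 0 := by
    rw [hd', polar_sub_right, polar_smul_right, hed0, hed, smul_zero, sub_zero]
  have hfd' : polar Q f0 d' = 0 := by
    rw [hd', polar_sub_right, polar_smul_right, hfd0, hfd, smul_zero, sub_zero]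
  have hrd : r d = d' := hr d hed hfd
  have hrd' : r d' = d := by
    rw [hr d' hed' hfd', hpd', hd']
    module
  have hfixe : ∀ z : K, r (P.e z) = P.e z := by
    intro z
    rw [hr _ (P.polar_e' he0 z) (P.polar_e' hf0 z), P.polar_e' hd0, mul_zero, zero_smul, sub_zero]
  have hfixf : ∀ z : K, r (P.f z) = P.f z := by
    intro z
    rw [hr _ (P.polar_f' he0 z) (P.polar_f' hf0 z), P.polar_f' hd0, mul_zero, zero_smul, sub_zero]
  refine E_le_of_three hG hHO P h0 he0 hf0 h11 h12 h21 h22 hd hd'P hed hfd hed' hfd' ?_ ?_ hg hS hτ hQ0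
    hre hrf (hfixe _) (hfixe _) (hfixf _) (hfixf _) hrd hrd' hwH
  · by_contra hcon
    push Not at hcon
    obtain ⟨h1, h2⟩ := hcon
    rw [hd', polar_sub_left, h2, polar_smul_left, smul_eq_mul, zero_sub, neg_eq_zero] at h1
    rcases mul_eq_zero.1 h1 with h3 | h3
    · rcases mul_eq_zero.1 h3 with h4 | h4
      · exact inv_ne_zero hQ0 h4
      · exact hdd h4
    · exact hdd h3
  · intro v h1 h2 h3
    have h4 := hspan v h1 h2 h3
    refine (Submodule.span_le.2 ?_) h4
    rintro x (rfl | rfl)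
    · -- `d0` is a combination of `d` and `d'`
      have hk : ((Q x)⁻¹ * polar Q x d) ≠ 0 := mul_ne_zero (inv_ne_zero hQ0) hdd
      have e : x = ((Q x)⁻¹ * polar Q x d)⁻¹ • d - ((Q x)⁻¹ * polar Q x d)⁻¹ • d' := by
        rw [hd', ← smul_sub, sub_sub_cancel, smul_smul, inv_mul_cancel₀ hk, one_smul]
      have h5 : ((Q x)⁻¹ * polar Q x d)⁻¹ • d - ((Q x)⁻¹ * polar Q x d)⁻¹ • d' ∈
          Submodule.span F {d, d'} :=
        Submodule.sub_mem _ (Submodule.smul_mem _ _ (Submodule.subset_span (by simp)))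
          (Submodule.smul_mem _ _ (Submodule.subset_span (by simp)))
      rw [SetLike.mem_coe, e]
      exact h5
    · exact Submodule.subset_span (by simp)

end Cfsg.Agent.H137
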