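import Mathlib
import Cfsg.Agent.H137.OrthTwo
import Cfsg.Agent.H136.TwoGen
import Cfsg.Agent.LieClassical.OrthFinite
import Cfsg.Agent.LieClassical.OrthForms

/-!
# Two-generation of `E Q` from a hyperbolic family, transfer to `POmega` (helper137)
-/

set_option autoImplicit false

namespace Cfsg.Agent.H137

open QuadraticMap Cfsg.Agent.LieClassical.OrthCore Cfsg.Agent.LieClassical.OrthTrans
  Cfsg.Agent.LieClassical.OrthSimple Cfsg.Agent.ClassicalGeometry.OrthAutBasic
  Cfsg.Agent.H887.SiegelMethod

variable {F V : Type*} [Field F] [AddCommGroup V] [Module F V] {Q : QuadraticForm F V}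

/-- A hyperbolic family. -/
structure HypFam (Q : QuadraticForm F V) {ι : Type*} [DecidableEq ι] (ev fv : ι → V) : Prop where
  Qe : ∀ i, Q (ev i) = 0
  Qf : ∀ i, Q (fv i) = 0
  ee : ∀ i j, polar Q (ev i) (ev j) = 0
  ff : ∀ i j, polar Q (fv i) (fv j) = 0
  ef : ∀ i j, polar Q (ev i) (fv j) = if i = j then 1 else 0

/-- A totally singular span. -/
theorem tsing {ι : Type*} {ev : ι → V} (h1 : ∀ i, Q (ev i) = 0) (h2 : ∀ i j, polar Q (ev i) (ev j) = 0)
    {v : V} (hv : v ∈ Submodule.span F (Set.range ev)) : Q v = 0 := by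
  have hp : ∀ x ∈ Submodule.span F (Set.range ev), ∀ y ∈ Submodule.span F (Set.range ev),
      polar Q x y = 0 := by
    intro x hx y hy
    induction hx using Submodule.span_induction with
    | mem x hx =>
      obtain ⟨i, rfl⟩ := hx
      induction hy using Submodule.span_induction with
      | mem y hy => obtain ⟨j, rfl⟩ := hy; exact h2 i j
      | zero => exact polar_zero_right Q _
      | add a b _ _ ha hb => rw [polar_add_right, ha, hb, add_zero]
      | smul c a _ ha => rw [polar_smul_right, ha, smul_zero]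
    | zero => exact polar_zero_left Q _
    | add a b _ _ ha hb => rw [polar_add_left, ha, hb, add_zero]
    | smul c a _ ha => rw [polar_smul_left, ha, smul_zero]
  induction hv using Submodule.span_induction with
  | mem x hx => obtain ⟨i, rfl⟩ := hx; exact h1 i
  | zero => exact QuadraticMap.map_zero Q
  | add a b ha hb ha' hb' => rw [Q_add, ha', hb', hp a ha b hb]; simp
  | smul c a _ ha => rw [QuadraticMap.map_smul, ha, smul_zero]

/-- The pair structure of a hyperbolic family and a basis of `K`. -/
noncomputable def mkPair {K : Type*} [Field K] [Algebra F K] [FiniteDimensional F K]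
    [Algebra.IsSeparable F K] {ι : Type*} [Fintype ι] [DecidableEq ι] (b : Module.Basis ι F K) {ev fv : ι → V}
    (h : HypFam Q ev fv) : SPair Q K where
  e := b.constr F ev
  f := b.traceDual.constr F fv
  pe := ∑ i, (QuadraticMap.polarBilin Q (fv i)).smulRight (b i)
  pf := ∑ i, (QuadraticMap.polarBilin Q (ev i)).smulRight (b.traceDual i)
  Qe := by
    intro x
    refine tsing h.Qe h.ee ?_
    rw [← b.constr_range F]
    exact LinearMap.mem_range_self _ _
  Qf := by
    intro x
    refine tsing h.Qf h.ff ?_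
    rw [← b.traceDual.constr_range F]
    exact LinearMap.mem_range_self _ _
  pf_spec := by
    intro x v
    have key : (QuadraticMap.polarBilin Q).flip v ∘ₗ b.constr F ev =
        (Algebra.trace F K) ∘ₗ (LinearMap.mulRight F (((∑ i, (QuadraticMap.polarBilin Q (ev i)).smulRight
          (b.traceDual i) : V →ₗ[F] K)) v)) := by
      refine b.ext fun j => ?_
      simp only [LinearMap.comp_apply, b.constr_basis, LinearMap.flip_apply, polarBilin_apply_apply,
        LinearMap.mulRight_apply, LinearMap.sum_apply, LinearMap.smulRight_apply, Finset.mul_sum, map_sum,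
        mul_smul_comm, map_smul, b.trace_mul_traceDual, smul_eq_mul, mul_ite, mul_one, mul_zero]
      simp
    exact LinearMap.congr_fun key x
  pe_spec := by
    intro x v
    have key : (QuadraticMap.polarBilin Q).flip v ∘ₗ b.traceDual.constr F fv =
        (Algebra.trace F K) ∘ₗ (LinearMap.mulRight F (((∑ i, (QuadraticMap.polarBilin Q (fv i)).smulRight
          (b i) : V →ₗ[F] K)) v)) := by
      refine b.traceDual.ext fun j => ?_
      simp only [LinearMap.comp_apply, b.traceDual.constr_basis, LinearMap.flip_apply, polarBilin_apply_apply,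
        LinearMap.mulRight_apply, LinearMap.sum_apply, LinearMap.smulRight_apply, Finset.mul_sum, map_sum,
        mul_smul_comm, map_smul, b.trace_traceDual_mul, smul_eq_mul, mul_ite, mul_one, mul_zero]
      simp
    exact LinearMap.congr_fun key x
  pe_e := by
    intro x
    have key : (∑ i, (QuadraticMap.polarBilin Q (fv i)).smulRight (b i) : V →ₗ[F] K) ∘ₗ b.constr F ev =
        LinearMap.id := by
      refine b.ext fun j => ?_
      simp only [LinearMap.comp_apply, b.constr_basis, LinearMap.sum_apply, LinearMap.smulRight_apply,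
        polarBilin_apply_apply, LinearMap.id_apply]
      rw [Finset.sum_eq_single j]
      · rw [polar_comm, h.ef, if_pos rfl, one_smul]
      · intro i _ hij
        rw [polar_comm, h.ef, if_neg (Ne.symm hij), zero_smul]
      · simp
    exact LinearMap.congr_fun key x
  pe_f := by
    intro x
    have key : (∑ i, (QuadraticMap.polarBilin Q (fv i)).smulRight (b i) : V →ₗ[F] K) ∘ₗ
        b.traceDual.constr F fv = 0 := by
      refine b.traceDual.ext fun j => ?_
      simp only [LinearMap.comp_apply, b.traceDual.constr_basis, LinearMap.sum_apply, LinearMap.smulRight_apply,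
        polarBilin_apply_apply, LinearMap.zero_apply, h.ff, zero_smul, Finset.sum_const_zero]
    exact LinearMap.congr_fun key x
  pf_e := by
    intro x
    have key : (∑ i, (QuadraticMap.polarBilin Q (ev i)).smulRight (b.traceDual i) : V →ₗ[F] K) ∘ₗ
        b.constr F ev = 0 := by
      refine b.ext fun j => ?_
      simp only [LinearMap.comp_apply, b.constr_basis, LinearMap.sum_apply, LinearMap.smulRight_apply,
        polarBilin_apply_apply, LinearMap.zero_apply, h.ee, zero_smul, Finset.sum_const_zero]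
    exact LinearMap.congr_fun key x
  pf_f := by
    intro x
    have key : (∑ i, (QuadraticMap.polarBilin Q (ev i)).smulRight (b.traceDual i) : V →ₗ[F] K) ∘ₗ
        b.traceDual.constr F fv = LinearMap.id := by
      refine b.traceDual.ext fun j => ?_
      simp only [LinearMap.comp_apply, b.traceDual.constr_basis, LinearMap.sum_apply, LinearMap.smulRight_apply,
        polarBilin_apply_apply, LinearMap.id_apply]
      rw [Finset.sum_eq_single j]
      · rw [h.ef, if_pos rfl, one_smul]
      · intro i _ hij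
        rw [h.ef, if_neg hij, zero_smul]
      · simp
    exact LinearMap.congr_fun key x

/-- A finite extension of given degree. -/
theorem exists_ext (F : Type*) [Field F] [Finite F] (k : ℕ) (hk : k ≠ 0) :
    ∃ (K : Type) (_ : Field K) (_ : Finite K) (_ : Algebra F K), Module.finrank F K = k := by
  have : NeZero k := ⟨hk⟩
  have : CharP F (ringChar F) := ringChar.charP F
  have : Fact (ringChar F).Prime := ⟨CharP.char_is_prime F _⟩
  exact ⟨FiniteField.Extension F (ringChar F) k, inferInstance, inferInstance, inferInstance,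
    FiniteField.finrank_extension F (ringChar F) k⟩

theorem perp_mkPair {K : Type*} [Field K] [Algebra F K] [FiniteDimensional F K]
    [Algebra.IsSeparable F K] {ι : Type*} [Fintype ι] [DecidableEq ι] (b : Module.Basis ι F K) {ev fv : ι → V}
    (h : HypFam Q ev fv) (v : V) :
    (mkPair b h).Perp v ↔ (∀ i, polar Q (ev i) v = 0) ∧ ∀ i, polar Q (fv i) v = 0 := by
  have e1 : (mkPair b h).pe v = ∑ i, polar Q (fv i) v • b i := by
    show (∑ i, (QuadraticMap.polarBilin Q (fv i)).smulRight (b i) : V →ₗ[F] K) v = _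
    simp only [LinearMap.sum_apply, LinearMap.smulRight_apply, polarBilin_apply_apply]
  have e2 : (mkPair b h).pf v = ∑ i, polar Q (ev i) v • b.traceDual i := by
    show (∑ i, (QuadraticMap.polarBilin Q (ev i)).smulRight (b.traceDual i) : V →ₗ[F] K) v = _
    simp only [LinearMap.sum_apply, LinearMap.smulRight_apply, polarBilin_apply_apply]
  constructor
  · rintro ⟨h1, h2⟩
    rw [e1] at h1
    rw [e2] at h2
    exact ⟨fun i => (Fintype.linearIndependent_iff.1 b.traceDual.linearIndependent) _ h2 i,
      fun i => (Fintype.linearIndependent_iff.1 b.linearIndependent) _ h1 i⟩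
  · rintro ⟨h1, h2⟩
    refine ⟨?_, ?_⟩
    · rw [e1]; simp [h2]
    · rw [e2]; simp [h1]

/-- **Two-generation of `E Q`** from a hyperbolic family of size `k + 1`, `k ≥ 2`, with orthogonal complement
spanned by `d0` and `d`. -/
theorem two_gen_of_fam [Finite F] [FiniteDimensional F V] (hG : Good Q) {k : ℕ} (hk : 2 ≤ k)
    {ev fv : Fin (k + 1) → V} (h : HypFam Q ev fv) {d0 d : V}
    (h1 : ∀ i, polar Q (ev i) d0 = 0) (h2 : ∀ i, polar Q (fv i) d0 = 0)
    (h3 : ∀ i, polar Q (ev i) d = 0) (h4 : ∀ i, polar Q (fv i) d = 0)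
    (hQ0 : Q d0 ≠ 0) (hdd : polar Q d0 d ≠ 0)
    (hspan : ∀ v, (∀ i, polar Q (ev i) v = 0) → (∀ i, polar Q (fv i) v = 0) → v ∈ Submodule.span F {d0, d}) :
    ∃ a b : V ≃ₗ[F] V, a ∈ E Q ∧ b ∈ E Q ∧ E Q ≤ Subgroup.closure {a, b} := by
  obtain ⟨K, _, _, _, hK⟩ := exists_ext F k (by omega)
  have : FiniteDimensional F K := Module.finite_of_finrank_pos (by omega)
  have : Algebra.IsSeparable F K := inferInstance
  let b : Module.Basis (Fin k) F K := (Module.finBasis F K).reindex (finCongr hK)
  have hfam : HypFam Q (fun i : Fin k => ev i.succ) (fun i : Fin k => fv i.succ) := by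
    refine ⟨fun i => h.Qe _, fun i => h.Qf _, fun i j => h.ee _ _, fun i j => h.ff _ _, fun i j => ?_⟩
    rw [h.ef]
    simp only [Fin.succ_inj]
  set P := mkPair b hfam with hP
  have hpe : ∀ v, P.Perp v ↔ (∀ i : Fin k, polar Q (ev i.succ) v = 0) ∧ ∀ i : Fin k, polar Q (fv i.succ) v = 0 :=
    fun v => perp_mkPair b hfam v
  have hyp : Hyp Q (ev 0) (fv 0) := ⟨h.Qe _, h.Qf _, by rw [h.ef, if_pos rfl]⟩
  have he0 : P.Perp (ev 0) := (hpe _).2 ⟨fun i => h.ee _ _, fun i => by
    rw [polar_comm, h.ef, if_neg (Fin.succ_ne_zero i).symm]⟩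
  have hf0 : P.Perp (fv 0) := (hpe _).2 ⟨fun i => by
    rw [h.ef, if_neg (Fin.succ_ne_zero i)], fun i => h.ff _ _⟩
  have h01 : (⟨0, by omega⟩ : Fin k) ≠ ⟨1, by omega⟩ := by
    intro h; simp [Fin.ext_iff] at h
  refine two_gen_E hG P hyp he0 hf0 (x1 := b ⟨0, by omega⟩) (x2 := b ⟨1, by omega⟩)
    (y1 := b.traceDual ⟨0, by omega⟩) (y2 := b.traceDual ⟨1, by omega⟩) ?_ ?_ ?_ ?_
    ((hpe d0).2 ⟨fun i => h1 _, fun i => h2 _⟩) ((hpe d).2 ⟨fun i => h3 _, fun i => h4 _⟩)
    (h1 0) (h2 0) (h3 0) (h4 0) hQ0 hdd ?_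
  · rw [b.trace_mul_traceDual, if_pos rfl]
  · rw [b.trace_mul_traceDual, if_neg h01]
  · rw [b.trace_mul_traceDual, if_neg h01.symm]
  · rw [b.trace_mul_traceDual, if_pos rfl]
  · intro v hv hv1 hv2
    refine hspan v (fun i => ?_) (fun i => ?_)
    · refine Fin.cases hv1 (fun j => ((hpe v).1 hv).1 j) i
    · refine Fin.cases hv2 (fun j => ((hpe v).1 hv).2 j) i

/-- Quotients of two-generated groups. -/
theorem two_gen_surj {G G' : Type*} [Group G] [Group G'] (f : G →* G') (hf : Function.Surjective f)
    (h : ∃ a b : G, Subgroup.closure ({a, b} : Set G) = ⊤) :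
    ∃ a b : G', Subgroup.closure ({a, b} : Set G') = ⊤ := by
  obtain ⟨a, b, hab⟩ := h
  refine ⟨f a, f b, ?_⟩
  have h1 := congrArg (Subgroup.map f) hab
  rw [MonoidHom.map_closure, Set.image_pair, ← MonoidHom.range_eq_map, MonoidHom.range_eq_top.2 hf] at h1
  exact h1

/-- Transfer to `POmega`. -/
theorem two_gen_POmega {ι : Type} [Fintype ι] [DecidableEq ι] {F : Type*} [Field F]
    {Q : QuadraticForm F (ι → F)} (hG : Good Q)
    (h : ∃ a b : (ι → F) ≃ₗ[F] (ι → F), a ∈ E Q ∧ b ∈ E Q ∧ E Q ≤ Subgroup.closure {a, b}) :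
    ∃ a b : Cfsg.POmega F ⇑Q, Subgroup.closure ({a, b} : Set (Cfsg.POmega F ⇑Q)) = ⊤ := by
  rw [← hG.commutator_eq_E] at h
  have h1 := Cfsg.Agent.H136.TwoGen.of_ambient _ h
  have h2 := two_gen_surj (Cfsg.Agent.LieClassical.OrthFinite.omegaEquiv Q).symm.toMonoidHom
    (Cfsg.Agent.LieClassical.OrthFinite.omegaEquiv Q).symm.surjective h1
  exact two_gen_surj (QuotientGroup.mk' _) (QuotientGroup.mk'_surjective _) h2

end Cfsg.Agent.H137
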