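import Mathlib
import Cfsg.Agent.H137.SpModel
import Cfsg.Agent.H137.Fam
import Cfsg.Agent.S0765
import Cfsg.Agent.ClassicalGeometry.SympBasic

/-!
# Two-generation of the symplectic groups (helper137)
-/

set_option autoImplicit false

namespace Cfsg.Agent.H137

open Cfsg Cfsg.Agent.ClassicalGeometry.SympBasic Cfsg.Agent.H137.SpModel
open scoped Matrix

variable {F K : Type*} [Field F] [Field K] [Algebra F K] {k : ℕ}

theorem trace_equivFun [FiniteDimensional F K] [Algebra.IsSeparable F K] (b : Module.Basis (Fin k) F K)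
    (s t : Fin k → F) :
    Algebra.trace F K (b.equivFun.symm s * b.traceDual.equivFun.symm t) = ∑ i, s i * t i := by
  rw [Module.Basis.equivFun_symm_apply, Module.Basis.equivFun_symm_apply, Finset.sum_mul, map_sum]
  refine Finset.sum_congr rfl fun i _ => ?_
  rw [Finset.mul_sum, map_sum, Finset.sum_eq_single i]
  · rw [smul_mul_smul_comm, map_smul, b.trace_mul_traceDual, if_pos rfl, smul_eq_mul, mul_one]
  · intro j _ hj
    rw [smul_mul_smul_comm, map_smul, b.trace_mul_traceDual, if_neg (Ne.symm hj), smul_zero]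
  · simp

/-- The isometry between the standard space and the model. -/
noncomputable def Phi [FiniteDimensional F K] [Algebra.IsSeparable F K] (b : Module.Basis (Fin k) F K) :
    (Fin (k + 1) ⊕ Fin (k + 1) → F) ≃ₗ[F] M F K where
  toFun v := (b.equivFun.symm (fun i => v (Sum.inr i.succ)), b.traceDual.equivFun.symm (fun i => v (Sum.inl i.succ)),
    v (Sum.inr 0), v (Sum.inl 0))
  invFun u := Sum.elim (Fin.cons u.2.2.2 (b.traceDual.equivFun u.2.1)) (Fin.cons u.2.2.1 (b.equivFun u.1))
  map_add' u v := by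
    have e1 : (fun i : Fin k => (u + v) (Sum.inr i.succ)) = (fun i : Fin k => u (Sum.inr i.succ)) +
      fun i : Fin k => v (Sum.inr i.succ) := rfl
    have e2 : (fun i : Fin k => (u + v) (Sum.inl i.succ)) = (fun i : Fin k => u (Sum.inl i.succ)) +
      fun i : Fin k => v (Sum.inl i.succ) := rfl
    rw [e1, e2, map_add, map_add]
    rfl
  map_smul' c v := by
    have e1 : (fun i : Fin k => (c • v) (Sum.inr i.succ)) = c • (fun i : Fin k => v (Sum.inr i.succ)) := rfl
    have e2 : (fun i : Fin k => (c • v) (Sum.inl i.succ)) = c • (fun i : Fin k => v (Sum.inl i.succ)) := rfl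
    rw [e1, e2, map_smul, map_smul]
    rfl
  left_inv v := by
    funext j
    rcases j with j | j
    · refine Fin.cases ?_ (fun j => ?_) j
      · rfl
      · show b.traceDual.equivFun (b.traceDual.equivFun.symm (fun i => v (Sum.inl i.succ))) j = _
        rw [LinearEquiv.apply_symm_apply]
    · refine Fin.cases ?_ (fun j => ?_) j
      · rfl
      · show b.equivFun (b.equivFun.symm (fun i => v (Sum.inr i.succ))) j = _
        rw [LinearEquiv.apply_symm_apply]
  right_inv u := by
    have e1 : b.equivFun.symm (b.equivFun u.1) = u.1 := LinearEquiv.symm_apply_apply _ _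
    have e2 : b.traceDual.equivFun.symm (b.traceDual.equivFun u.2.1) = u.2.1 :=
      LinearEquiv.symm_apply_apply _ _
    exact Prod.ext e1 (Prod.ext e2 rfl)

theorem Phi_apply [FiniteDimensional F K] [Algebra.IsSeparable F K] (b : Module.Basis (Fin k) F K)
    (v : Fin (k + 1) ⊕ Fin (k + 1) → F) :
    Phi b v = (b.equivFun.symm (fun i => v (Sum.inr i.succ)),
      b.traceDual.equivFun.symm (fun i => v (Sum.inl i.succ)), v (Sum.inr 0), v (Sum.inl 0)) := rfl

theorem B_Phi [FiniteDimensional F K] [Algebra.IsSeparable F K] (b : Module.Basis (Fin k) F K)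
    (u v : Fin (k + 1) ⊕ Fin (k + 1) → F) : B (Phi b u) (Phi b v) = sympForm (k + 1) F u v := by
  rw [B_def, Phi_apply, Phi_apply]
  simp only [trace_equivFun]
  rw [sympForm_eq_sum, Fin.sum_univ_succ, Finset.sum_sub_distrib]
  have e : ∑ i : Fin k, v (Sum.inr i.succ) * u (Sum.inl i.succ) = ∑ i : Fin k, u (Sum.inl i.succ) * v (Sum.inr i.succ) :=
    Finset.sum_congr rfl fun i _ => mul_comm _ _
  rw [e]
  ring

/-- The homomorphism from the isometry group of the model to matrices. -/
noncomputable def psi [FiniteDimensional F K] [Algebra.IsSeparable F K] (b : Module.Basis (Fin k) F K) :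
    Sp F K →* Matrix.symplecticGroup (Fin (k + 1)) F where
  toFun g := ⟨LinearMap.toMatrix' (((Phi b).trans ((g : M F K ≃ₗ[F] M F K).trans (Phi b).symm) :
      (Fin (k + 1) ⊕ Fin (k + 1) → F) ≃ₗ[F] (Fin (k + 1) ⊕ Fin (k + 1) → F)) :
        (Fin (k + 1) ⊕ Fin (k + 1) → F) →ₗ[F] (Fin (k + 1) ⊕ Fin (k + 1) → F)), by
    rw [mem_symplecticGroup_iff]
    intro u v
    rw [LinearMap.toMatrix'_mulVec, LinearMap.toMatrix'_mulVec, ← B_Phi b, ← B_Phi b]
    simp only [LinearEquiv.coe_coe, LinearEquiv.trans_apply, LinearEquiv.apply_symm_apply]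
    exact g.2 _ _⟩
  map_one' := by
    apply Subtype.ext
    rw [← Matrix.mulVec_injective.eq_iff]
    funext x
    show LinearMap.toMatrix' _ *ᵥ x = (1 : Matrix _ _ F) *ᵥ x
    rw [LinearMap.toMatrix'_mulVec, Matrix.one_mulVec]
    simp
  map_mul' g h := by
    apply Subtype.ext
    rw [← Matrix.mulVec_injective.eq_iff]
    funext x
    show LinearMap.toMatrix' _ *ᵥ x = (LinearMap.toMatrix' _ * LinearMap.toMatrix' _) *ᵥ x
    rw [← Matrix.mulVec_mulVec, LinearMap.toMatrix'_mulVec, LinearMap.toMatrix'_mulVec,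
      LinearMap.toMatrix'_mulVec]
    simp

theorem psi_mulVec [FiniteDimensional F K] [Algebra.IsSeparable F K] (b : Module.Basis (Fin k) F K) (g : Sp F K)
    (v : Fin (k + 1) ⊕ Fin (k + 1) → F) :
    (psi b g : Matrix (Fin (k + 1) ⊕ Fin (k + 1)) (Fin (k + 1) ⊕ Fin (k + 1)) F) *ᵥ v =
      (Phi b).symm ((g : M F K ≃ₗ[F] M F K) (Phi b v)) := by
  show LinearMap.toMatrix' _ *ᵥ v = _
  rw [LinearMap.toMatrix'_mulVec]
  simp

/-- **Two-generation of `Sp_{2(k+1)}(q)`, `k ≥ 1`, `q ^ k ≠ 2`.** -/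
theorem two_gen_Sp (F : Type*) [Field F] [Finite F] {k : ℕ} (hk : k ≠ 0) (hc : 2 < Nat.card F ^ k) :
    ∃ a b : Matrix.symplecticGroup (Fin (k + 1)) F,
      Subgroup.closure ({a, b} : Set (Matrix.symplecticGroup (Fin (k + 1)) F)) = ⊤ := by
  obtain ⟨K, _, _, _, hK⟩ := exists_ext F k hk
  have : FiniteDimensional F K := Module.finite_of_finrank_pos (by omega)
  have : Algebra.IsSeparable F K := inferInstance
  let b : Module.Basis (Fin k) F K := (Module.finBasis F K).reindex (finCongr hK)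
  have hcard : 2 < Nat.card K := by
    rwa [Module.natCard_eq_pow_finrank (K := F) (V := K), hK]
  obtain ⟨a, c, ha, hc', hac⟩ := exists_two (F := F) (K := K) hcard
  refine ⟨psi b ⟨a, ha⟩, psi b ⟨c, hc'⟩, ?_⟩
  rw [eq_top_iff, ← Cfsg.Agent.S0765.result, Subgroup.closure_le]
  rintro A ⟨w, t, hA⟩
  obtain ⟨g, hg, hgv⟩ := hac (Phi b w) t
  have hgS : g ∈ Sp F K := by
    refine (?_ : Subgroup.closure {a, c} ≤ Sp F K) hg
    rw [Subgroup.closure_le]
    rintro x (rfl | rfl)
    · exact ha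
    · exact hc'
  have e1 : psi b ⟨g, hgS⟩ = A := by
    apply Subtype.ext
    rw [← Matrix.mulVec_injective.eq_iff]
    funext x
    show (psi b ⟨g, hgS⟩ : Matrix (Fin (k + 1) ⊕ Fin (k + 1)) (Fin (k + 1) ⊕ Fin (k + 1)) F) *ᵥ x = A.1 *ᵥ x
    rw [psi_mulVec, hA, sympTransvection_mulVec]
    show (Phi b).symm (g (Phi b x)) = _
    rw [hgv, map_add, map_smul, LinearEquiv.symm_apply_apply, LinearEquiv.symm_apply_apply, B_Phi]
  have e2 : (⟨g, hgS⟩ : Sp F K) ∈ Subgroup.closure ({⟨a, ha⟩, ⟨c, hc'⟩} : Set (Sp F K)) := by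
    have e3 : Subgroup.map (Sp F K).subtype (Subgroup.closure ({⟨a, ha⟩, ⟨c, hc'⟩} : Set (Sp F K))) =
        Subgroup.closure {a, c} := by
      rw [MonoidHom.map_closure, Set.image_pair]
      rfl
    rw [← e3] at hg
    obtain ⟨g', hg', e4⟩ := hg
    have e5 : g' = ⟨g, hgS⟩ := Subtype.ext e4
    rwa [e5] at hg'
  have e6 := Subgroup.mem_map_of_mem (psi b) e2
  rw [MonoidHom.map_closure, Set.image_pair, e1] at e6
  exact e6

end Cfsg.Agent.H137
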