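import Mathlib
import Cfsg.Agent.LieClassical.HermGen

/-!
# Siegel elements contained in a subgroup of `SU n F q` (helper137)

`SM hF H u w μ`: the data form a Siegel element and it belongs to `H`. The closure properties, and the
criterion: a subgroup which contains all Siegel elements of two non-orthogonal isotropic vectors is everything.
-/

set_option autoImplicit false

namespace Cfsg.Agent.H137.Herm

open Cfsg Cfsg.Agent.LieClassical.HermBasic Cfsg.Agent.LieClassical.HermSiegel
  Cfsg.Agent.LieClassical.HermGen Matrix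

variable {F : Type*} [Field F] [Fintype F] {q n : ℕ}

/-- The Siegel element with parameters `u, w, μ` exists and belongs to `H`. -/
def SM (hF : Fintype.card F = q ^ 2) (H : Subgroup (SU n F q)) (u w : Fin n → F) (μ : F) : Prop :=
  ∃ h : IsSiegel q u w μ, siegel hF u w μ h ∈ H

variable {hF : Fintype.card F = q ^ 2} {H : Subgroup (SU n F q)} {u u' w w' : Fin n → F} {μ μ' : F}

theorem SM.congr (h : SM hF H u w μ) (hu : u = u') (hw : w = w') (hμ : μ = μ') : SM hF H u' w' μ' := by
  subst hu hw hμ; exact h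

theorem SM.mul (h : SM hF H u w μ) (h' : SM hF H u w' μ') :
    SM hF H u (w + w') (μ + μ' - hermForm n F q w' w) := by
  obtain ⟨h1, h2⟩ := h
  obtain ⟨h1', h2'⟩ := h'
  refine ⟨h1.mul hF h1', ?_⟩
  rw [← siegel_mul hF h1 h1']
  exact H.mul_mem h2 h2'

theorem SM.inv (h : SM hF H u w μ) : SM hF H u (-w) (μ ^ q) := by
  obtain ⟨h1, h2⟩ := h
  refine ⟨h1.inv hF, ?_⟩
  rw [← siegel_inv hF h1]
  exact H.inv_mem h2

theorem SM.conj (h : SM hF H u w μ) {g : SU n F q} (hg : g ∈ H) : SM hF H (act g u) (act g w) μ := by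
  obtain ⟨h1, h2⟩ := h
  refine ⟨h1.map g, ?_⟩
  rw [← conj_siegel hF h1 g]
  exact H.mul_mem (H.mul_mem hg h2) (H.inv_mem hg)

theorem SM.smul {c : F} (h : SM hF H (c • u) w μ) (hc : c ≠ 0) :
    SM hF H u (c ^ q • w) (c * c ^ q * μ) := by
  obtain ⟨h1, h2⟩ := h
  have h3 : IsSiegel q u w μ := by
    refine ⟨?_, ?_, h1.tr⟩
    · have := h1.iso
      rw [herm_smul_left, herm_smul_right, mul_eq_zero, mul_eq_zero] at this
      rcases this with h | h | h
      · exact absurd h hc
      · exact absurd h (pow_ne_zero _ hc)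
      · exact h
    · have := h1.orth
      rw [herm_smul_right, mul_eq_zero] at this
      rcases this with h | h
      · exact absurd h (pow_ne_zero _ hc)
      · exact h
  refine ⟨h3.smul' hF, ?_⟩
  rw [← siegel_smul hF h3]
  exact h2

theorem SM.smul_inv {c : F} (h : SM hF H u (c ^ q • w) (c * c ^ q * μ)) (hc : c ≠ 0) :
    SM hF H (c • u) w μ := by
  have h1 : SM hF H (c⁻¹ • (c • u)) (c ^ q • w) (c * c ^ q * μ) :=
    h.congr (by rw [smul_smul, inv_mul_cancel₀ hc, one_smul]) rfl rfl
  refine (h1.smul (inv_ne_zero hc)).congr rfl ?_ ?_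
  · rw [smul_smul, inv_pow, inv_mul_cancel₀ (pow_ne_zero _ hc), one_smul]
  · have : c ^ q ≠ 0 := pow_ne_zero _ hc
    rw [inv_pow]
    field_simp

theorem SM.comm (h : SM hF H u w μ) (h' : SM hF H u w' μ') :
    SM hF H u 0 (hermForm n F q w w' - hermForm n F q w' w) := by
  have h1 := ((h.mul h').mul h.inv).mul h'.inv
  refine h1.congr rfl (by abel) ?_
  obtain ⟨k, -⟩ := h
  obtain ⟨k', -⟩ := h'
  simp only [herm_add_right hF, herm_neg_left, herm_neg_right hF]
  linear_combination k.tr + k'.tr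

/-- Both vectors isotropic: swap. -/
theorem SM.swap (h : SM hF H u w 0) (hw : hermForm n F q w w = 0) : SM hF H w (-u) 0 := by
  obtain ⟨h1, h2⟩ := h
  have h3 : IsSiegel q w (-u) 0 := by
    refine ⟨hw, ?_, ?_⟩
    · rw [herm_neg_left, h1.orth' hF, neg_zero]
    · rw [zero_pow_q hF, herm_neg_left, herm_neg_right hF, h1.iso]; simp
  refine ⟨h3, ?_⟩
  have : siegel hF w (-u) 0 h3 = siegel hF u w 0 h1 := by
    apply ext_act
    intro v
    rw [act_siegel, act_siegel, herm_neg_right hF]
    funext i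
    simp only [Pi.add_apply, Pi.smul_apply, smul_eq_mul, Pi.neg_apply]
    ring
  rw [this]
  exact h2

/-- The commutator of two Siegel elements with orthogonal isotropic vectors. -/
theorem SM.comm2 (h : SM hF H u w μ) (h' : SM hF H u' w' μ') (huu' : hermForm n F q u' u = 0)
    (hwu' : hermForm n F q u' w = 0) (hw'u : hermForm n F q w' u = 0) :
    SM hF H u' (-(hermForm n F q w' w) • u) 0 := by
  obtain ⟨k, hk⟩ := h
  have h1 := h'.conj hk
  have e1 : act (siegel hF u w μ k) u' = u' := act_siegel_of_orth hF k huu' hwu'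
  have e2 : act (siegel hF u w μ k) w' = w' - hermForm n F q w' w • u := by
    rw [act_siegel, hw'u]
    funext i
    simp only [Pi.add_apply, Pi.smul_apply, smul_eq_mul, Pi.sub_apply]
    ring
  rw [e1, e2] at h1
  refine (h1.mul h'.inv).congr rfl ?_ ?_
  · funext i
    simp only [Pi.add_apply, Pi.smul_apply, smul_eq_mul, Pi.sub_apply, Pi.neg_apply]
    ring
  · obtain ⟨k', -⟩ := h'
    have hsw : hermForm n F q w' u = 0 := hw'u
    simp only [herm_sub_right hF, herm_neg_left, herm_smul_right, hsw]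
    linear_combination k'.tr

/-- Absorbing a multiple of `u` in `w`. -/
theorem SM.add_self (h : SM hF H u w μ) (b : F) : SM hF H u (w + b • u) (μ - b + b ^ q) := by
  obtain ⟨h1, h2⟩ := h
  have h3 : IsSiegel q u (w + b • u) (μ - b + b ^ q) := by
    refine ⟨h1.iso, ?_, ?_⟩
    · rw [herm_add_left, herm_smul_left, h1.orth, h1.iso]; ring
    · simp only [herm_add_left, herm_add_right hF, herm_smul_left, herm_smul_right, h1.orth,
        h1.orth' hF, h1.iso, add_pow_q hF, sub_pow_q hF, pow_q_pow_q hF]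
      linear_combination h1.tr
  refine ⟨h3, ?_⟩
  have : siegel hF u (w + b • u) (μ - b + b ^ q) h3 = siegel hF u w μ h1 := by
    apply ext_act
    intro v
    rw [act_siegel, act_siegel, herm_add_right hF, herm_smul_right]
    funext i
    simp only [Pi.add_apply, Pi.smul_apply, smul_eq_mul]
    ring
  rw [this]
  exact h2

theorem SM.one (hu : hermForm n F q u u = 0) : SM hF H u 0 0 := by
  refine ⟨IsSiegel.zero hF hu, ?_⟩
  rw [siegel_zero]
  exact H.one_mem

/-! ### The additive group of the `w` -/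

/-- The vectors `w` such that some Siegel element with `u, w` is in `H`. -/
def WS (hF : Fintype.card F = q ^ 2) (H : Subgroup (SU n F q)) (u : Fin n → F)
    (hu : hermForm n F q u u = 0) : AddSubgroup (Fin n → F) where
  carrier := {w | ∃ μ, SM hF H u w μ}
  zero_mem' := ⟨0, SM.one hu⟩
  add_mem' := by
    rintro a b ⟨μ, h⟩ ⟨μ', h'⟩
    exact ⟨_, h.mul h'⟩
  neg_mem' := by
    rintro a ⟨μ, h⟩
    exact ⟨_, h.inv⟩

theorem mem_WS {hu : hermForm n F q u u = 0} : w ∈ WS hF H u hu ↔ ∃ μ, SM hF H u w μ := Iff.rfl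

/-- All Siegel elements of `u` are in `H`. -/
def Full (hF : Fintype.card F = q ^ 2) (H : Subgroup (SU n F q)) (u : Fin n → F) : Prop :=
  ∀ w μ, IsSiegel q u w μ → SM hF H u w μ

/-- A trace-zero element is of the form `x - x ^ q`. -/
theorem exists_sub_pow (hF : Fintype.card F = q ^ 2) {μ : F} (hμ : μ + μ ^ q = 0) :
    ∃ x : F, x - x ^ q = μ := by
  obtain ⟨t, ht⟩ := exists_trace_eq hF (c := (1 : F)) (one_pow q)
  refine ⟨μ * t, ?_⟩
  rw [mul_pow]
  have h1 : μ ^ q = -μ := by linear_combination hμ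
  rw [h1]
  linear_combination μ * ht

/-- The centre from the commutators. -/
theorem SM.center {c : F} (hc : c ≠ 0) (hu : hermForm n F q u u = 0)
    (h1 : ∀ a : F, a • w ∈ WS hF H u hu) (h2 : w' ∈ WS hF H u hu)
    (h3 : hermForm n F q w w' = c) {μ : F} (hμ : μ + μ ^ q = 0) : SM hF H u 0 μ := by
  obtain ⟨x, hx⟩ := exists_sub_pow hF hμ
  obtain ⟨μ1, k1⟩ := h1 (x / c)
  obtain ⟨μ2, k2⟩ := h2
  refine (k1.comm k2).congr rfl rfl ?_
  rw [herm_smul_left, herm_smul_right, h3, herm_swap hF w w', h3, ← hx, div_pow]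
  have : c ^ q ≠ 0 := pow_ne_zero _ hc
  field_simp

theorem full_of_center (hu : hermForm n F q u u = 0)
    (h1 : ∀ w, hermForm n F q w u = 0 → w ∈ WS hF H u hu)
    (h2 : ∀ μ : F, μ + μ ^ q = 0 → SM hF H u 0 μ) : Full hF H u := by
  intro w μ h
  obtain ⟨μ', k⟩ := h1 w h.orth
  have h3 : SM hF H u 0 (μ - μ') := by
    apply h2
    obtain ⟨k', -⟩ := k
    rw [sub_pow_q hF]
    linear_combination h.tr - k'.tr
  refine (k.mul h3).congr rfl (add_zero w) ?_
  rw [herm_zero_left]
  ring

theorem full_of_WS (hn : 3 ≤ n) (hu : hermForm n F q u u = 0) (hu0 : u ≠ 0)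
    (h1 : ∀ w, hermForm n F q w u = 0 → w ∈ WS hF H u hu) : Full hF H u := by
  obtain ⟨x, hx⟩ := exists_herm_ne_zero hF hu0
  obtain ⟨t, ht⟩ := exists_iso_correct hF hu hx
  obtain ⟨r, -, hr1, -, hr3⟩ := exists_perp hF hn le_rfl (mem_coordSub_top u)
    (mem_coordSub_top (x + t • u)) hu ht
    (by rw [herm_add_right hF, herm_smul_right, hu, mul_zero, add_zero]; exact hx)
    (c := (1 : F)) (one_pow q)
  refine full_of_center hu h1 ?_
  intro μ hμ
  refine SM.center (one_ne_zero (α := F)) hu (w := r) (w' := r) ?_ (h1 r hr1) hr3 hμ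
  intro a
  apply h1
  rw [herm_smul_left, hr1, mul_zero]

theorem Full.conj (h : Full hF H u) {g : SU n F q} (hg : g ∈ H) : Full hF H (act g u) := by
  intro w μ hw
  have h1 : IsSiegel q u (act g⁻¹ w) μ := by
    have := hw.map g⁻¹
    rwa [act_inv_act] at this
  exact ((h _ _ h1).conj hg).congr rfl (act_act_inv g w) rfl

theorem Full.smul (h : Full hF H u) {c : F} (hc : c ≠ 0) : Full hF H (c • u) := by
  intro w μ hw
  refine SM.smul_inv (h _ _ ?_) hc
  refine ⟨?_, ?_, ?_⟩
  · have := hw.iso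
    rw [herm_smul_left, herm_smul_right, mul_eq_zero, mul_eq_zero] at this
    rcases this with h | h | h
    · exact absurd h hc
    · exact absurd h (pow_ne_zero _ hc)
    · exact h
  · have := hw.orth
    rw [herm_smul_right, mul_eq_zero] at this
    rcases this with h | h
    · exact absurd h (pow_ne_zero _ hc)
    · rw [herm_smul_left, h, mul_zero]
  · rw [herm_smul_left, herm_smul_right, mul_pow, norm_pow_q hF, pow_q_pow_q hF]
    linear_combination (c * c ^ q) * hw.tr

/-- Moving with the Siegel elements of `z`. -/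
theorem Full.move {z : Fin n → F} (hz : Full hF H z) (hzz : hermForm n F q z z = 0)
    (h : Full hF H u) (hu : hermForm n F q u u = 0) (hu' : hermForm n F q u' u' = 0)
    (h1 : hermForm n F q u z ≠ 0) (h2 : hermForm n F q u' z ≠ 0) : Full hF H u' := by
  set c := hermForm n F q u' z / hermForm n F q u z with hc
  have hc0 : c ≠ 0 := div_ne_zero h2 h1
  obtain ⟨a, μ, hs, hact⟩ := exists_siegel_map hF hzz (v := c • u) (v' := u')
    (by rw [herm_smul_left, herm_smul_right, hu, hu']; ring)
    (by rw [herm_smul_left, hc, div_mul_cancel₀ _ h1])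
    (by rw [herm_smul_left, hc, div_mul_cancel₀ _ h1]; exact h2)
  obtain ⟨k, hk⟩ := hz _ _ hs
  have := (h.smul hc0).conj hk
  rwa [hact] at this

/-- The criterion. -/
theorem eq_top_of_full (hn : 3 ≤ n) (hu : hermForm n F q u u = 0) (hu' : hermForm n F q u' u' = 0)
    (huu' : hermForm n F q u u' ≠ 0) (h : Full hF H u) (h' : Full hF H u') : H = ⊤ := by
  have hu'u : hermForm n F q u' u ≠ 0 := by
    rw [herm_swap hF u u']
    exact pow_ne_zero _ huu'
  have hu0 : u ≠ 0 := by
    rintro rfl
    rw [herm_zero_left] at huu'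
    exact huu' rfl
  have h1 : ∀ z, hermForm n F q z z = 0 → hermForm n F q z u ≠ 0 → Full hF H z := fun z hz hzu =>
    Full.move h hu h' hu' hz hu'u hzu
  have h2 : ∀ z, z ≠ 0 → hermForm n F q z z = 0 → Full hF H z := by
    intro z hz0 hz
    by_cases hzu : hermForm n F q u z = 0
    · obtain ⟨t, -, htt, hut, hzt⟩ := exists_iso_common hF (mem_coordSub_top u) (mem_coordSub_top z)
        hu0 hz0 hu hzu
      have ht : Full hF H t := by
        apply h1 t htt
        rw [herm_swap hF u t]
        exact pow_ne_zero _ hut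
      exact Full.move ht htt h hu hz hut hzt
    · apply h1 z hz
      rw [herm_swap hF u z]
      exact pow_ne_zero _ hzu
  rw [eq_top_iff, ← siegelGroup_eq_top hF hn, siegelGroup, Subgroup.closure_le]
  rintro _ ⟨z, w, μ, k, rfl⟩
  by_cases hz0 : z = 0
  · have : siegel hF z w μ k = 1 := by
      apply ext_act
      intro v
      have h0 : hermForm n F q w w = 0 ∨ True := Or.inr trivial
      rw [act_siegel, act_one, hz0, herm_zero_right hF]
      simp
    rw [this]
    exact H.one_mem
  · obtain ⟨k', hk'⟩ := h2 z hz0 k.iso w μ k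
    exact hk'

end Cfsg.Agent.H137.Herm
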