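import Mathlib
import Cfsg.Agent.H137.HermEven

/-!
# Two elements generating `SU` in odd dimension (helper137)
-/

set_option autoImplicit false

namespace Cfsg.Agent.H137.Herm

open Cfsg Cfsg.Agent.LieClassical.HermBasic Cfsg.Agent.LieClassical.HermSiegel
  Cfsg.Agent.LieClassical.HermGen Matrix

variable {F : Type*} [Field F] [Fintype F] {q n : ℕ}

omit [Fintype F] in
theorem dg_pow {m : ℕ} (i0 : ZMod (2 * m)) (a b : F) (j : ZMod (2 * m)) (k : ℕ) :
    dg i0 a b j ^ k = dg i0 (a ^ k) (b ^ k) j := by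
  rw [dg, dg, mul_pow]
  congr 1
  · split_ifs
    · rfl
    · exact one_pow k
  · split_ifs
    · rfl
    · exact one_pow k

omit [Fintype F] in
theorem dg_one {m : ℕ} (i0 : ZMod (2 * m)) (j : ZMod (2 * m)) :
    dg i0 (1 : F) 1 j = 1 := by
  simp [dg]

omit [Fintype F] in
theorem act_pow_eig {S : SU n F q} {x : Fin n → F} {a : F} (h : act S x = a • x) (k : ℕ) :
    act (S ^ k) x = a ^ k • x := by
  induction k with
  | zero => rw [pow_zero, pow_zero, act_one, one_smul]
  | succ k ih => rw [pow_succ, act_mul, h, act_smul, ih, smul_smul, pow_succ, mul_comm]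

/-- The data of the odd case. -/
structure Odd' (q m : ℕ) (F : Type*) [Field F] where
  u : Option (ZMod (2 * m)) → Fin (2 * m + 1) → F
  W : Witt q (sgO m) u
  w : SU (2 * m + 1) F q
  e : F
  he : e ≠ 0
  hee : e * e ^ q = 1
  hw : ∀ j, act w (u (some j)) = (1 : F) • u (some (j + 1))
  hwd : act w (u none) = e • u none

theorem exists_odd (hF : Fintype.card F = q ^ 2) (m : ℕ) [NeZero m] : Nonempty (Odd' q m F) := by
  have hm0 : 0 < m := Nat.pos_of_ne_zero (NeZero.ne m)
  have : NeZero (2 * m) := ⟨by omega⟩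
  obtain ⟨u, W⟩ := exists_witt_odd (q := q) hF m
  set π : Equiv.Perm (Option (ZMod (2 * m))) := Equiv.optionCongr (Equiv.addRight 1) with hπ
  set s : F := ((Equiv.Perm.sign π : ℤ) : F) with hs
  have hss : s * s = 1 := sign_mul_self _
  have hsq : s * s ^ q = 1 := by
    have h1 : s ^ q = s := by
      have h2 : (1 : F) ^ q = 1 := one_pow q
      rcases Int.units_eq_one_or (Equiv.Perm.sign π) with h | h
      · rw [hs, h]; simp
      · rw [hs, h]
        simp only [Units.val_neg, Units.val_one, Int.cast_neg, Int.cast_one]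
        rw [neg_pow_q hF, h2]
    rw [h1, hss]
  have hex : ∃ w : SU (2 * m + 1) F q, ∀ o : Option (ZMod (2 * m)),
      act w (u o) = (o.elim s (fun _ => 1) : F) • u (π o) := by
    refine W.exists_mono hF (by rw [Fintype.card_option, ZMod.card]) π ?_ _ ?_ ?_
    · rintro (_ | j)
      · rfl
      · simp only [hπ, sgO, Equiv.optionCongr_apply, Option.map_some, Equiv.coe_addRight,
          Option.some.injEq]
        ring
    · rintro (_ | j)
      · exact hsq
      · simp [sgO]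
    · rw [Fintype.prod_option]
      simp only [Option.elim, Finset.prod_const_one, mul_one]
      exact hss
  obtain ⟨w, hw⟩ := hex
  refine ⟨⟨u, W, w, s, ?_, hsq, ?_, ?_⟩⟩
  · intro h
    rw [h, zero_mul] at hss
    exact zero_ne_one hss
  · intro j
    exact hw (some j)
  · exact hw none

namespace Odd'

variable {m : ℕ} (D : Odd' q m F)

/-- The isotropic part. -/
def v (j : ZMod (2 * m)) : Fin (2 * m + 1) → F := D.u (some j)

/-- The vector of norm one. -/
def d : Fin (2 * m + 1) → F := D.u none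

omit [Fintype F] in
theorem std : Std q D.v := by
  intro i j
  rw [v, v, D.W.gram]
  simp only [sgO, Option.map_some, Option.some.injEq]

omit [Fintype F] in
theorem hdd : hermForm (2 * m + 1) F q D.d D.d = 1 := by
  rw [d, D.W.gram]
  exact if_pos rfl

omit [Fintype F] in
theorem hdv (j : ZMod (2 * m)) : hermForm (2 * m + 1) F q D.d (D.v j) = 0 := by
  rw [d, v, D.W.gram, if_neg]
  simp [sgO]

omit [Fintype F] in
theorem hvd (j : ZMod (2 * m)) : hermForm (2 * m + 1) F q (D.v j) D.d = 0 := by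
  rw [d, v, D.W.gram, if_neg]
  simp [sgO]

omit [Fintype F] in
theorem expand [NeZero m] [NeZero (2 * m)] (x : Fin (2 * m + 1) → F) :
    x = hermForm (2 * m + 1) F q x D.d • D.d +
      ∑ j, hermForm (2 * m + 1) F q x (D.v (j + (m : ZMod (2 * m)))) • D.v j := by
  conv_lhs => rw [D.W.expand (by rw [Fintype.card_option, ZMod.card]) x]
  rw [Fintype.sum_option]
  rfl

omit [Fintype F] in
theorem hw' (j : ZMod (2 * m)) : act D.w (D.v j) = (1 : F) • D.v (j + 1) := D.hw j

omit [Fintype F] in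
theorem hwd' : act D.w D.d = D.e • D.d := D.hwd

variable {hF : Fintype.card F = q ^ 2} {H : Subgroup (SU (2 * m + 1) F q)}

/-- The end of the odd case. -/
theorem finish [NeZero m] (hwH : D.w ∈ H)
    (h1 : ∀ a : F, a • D.d ∈ WS hF H (D.v 0) (D.std.iso 0))
    (h2 : m = 1 ∨ (2 ≤ m ∧ R hF H D.v 0 ((m : ZMod (2 * m)) + 1))) : H = ⊤ := by
  have hm0 : 0 < m := Nat.pos_of_ne_zero (NeZero.ne m)
  have : NeZero (2 * m) := ⟨by omega⟩
  refine eq_top_of_WS (hF := hF) (γ := fun _ => 1) (by omega) D.std hwH (fun _ => one_ne_zero)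
    D.hw' ?_
  intro x hx
  rw [D.expand x]
  refine AddSubgroup.add_mem _ (h1 _) (AddSubgroup.sum_mem _ fun j _ => ?_)
  by_cases hj0 : j = 0
  · rw [hj0]; exact mem_WS_self _ _
  · by_cases hjm : j = (m : ZMod (2 * m))
    · rw [hjm, two_half, hx, zero_smul]
      exact AddSubgroup.zero_mem _
    · rcases h2 with h2 | ⟨h2, h3⟩
      · exfalso
        have hlt := j.val_lt
        have hj := ZMod.natCast_zmod_val j
        have : j.val = 0 ∨ j.val = m := by omega
        rcases this with h | h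
        · rw [h, Nat.cast_zero] at hj; exact hj0 hj.symm
        · rw [h] at hj; exact hjm hj.symm
      · exact ⟨0, R.all h2 D.std hwH (fun _ => one_ne_zero) D.hw' h3 0 j hj0
          (by rwa [zero_add]) _⟩

/-- Translates of the Siegel element. -/
theorem shift_tau (hwH : D.w ∈ H) {μ : F} (ht : SM hF H (D.v 0) D.d μ) (k : ℕ) :
    ∃ e : F, e ≠ 0 ∧ SM hF H (D.v (k : ZMod (2 * m))) (e • D.d) μ := by
  induction k with
  | zero => exact ⟨1, one_ne_zero, ht.congr (by rw [Nat.cast_zero]) (one_smul F _).symm rfl⟩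
  | succ k ih =>
    obtain ⟨e, he, h⟩ := ih
    refine ⟨e * D.e, mul_ne_zero he D.he, (h.conj hwH).congr ?_ ?_ rfl⟩
    · rw [D.hw', one_smul, Nat.cast_succ]
    · rw [act_smul, D.hwd', smul_smul]

theorem R_of_tau [NeZero m] (hm : 2 ≤ m) (hwH : D.w ∈ H) {μ : F} (ht : SM hF H (D.v 0) D.d μ)
    {S : SU (2 * m + 1) F q} (hS : S ∈ H) {z : F} (hz0 : z ≠ 0)
    (hz1 : ∀ y : F, y ≠ 0 → ∃ k : ℕ, z ^ k = y) (hS0 : act S (D.v 0) = z • D.v 0)
    (hS1 : act S (D.v ((m : ZMod (2 * m)) + 1)) = (1 : F) • D.v ((m : ZMod (2 * m)) + 1)) :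
    R hF H D.v 0 ((m : ZMod (2 * m)) + 1) := by
  obtain ⟨e, he, h⟩ := D.shift_tau hwH ht (m + 1)
  have hcast : ((m + 1 : ℕ) : ZMod (2 * m)) = (m : ZMod (2 * m)) + 1 := by push_cast; ring
  rw [hcast] at h
  have h10 : (1 : ZMod (2 * m)) ≠ 0 := by
    rw [← Nat.cast_one, ← Nat.cast_zero, Ne, cast_inj (by omega) (by omega)]; omega
  have hne : (m : ZMod (2 * m)) + 1 ≠ 0 + (m : ZMod (2 * m)) := by
    rw [zero_add]
    intro h
    exact h10 (add_eq_left.1 h)
  have h1 : SM hF H (D.v 0) (-(e ^ q) • D.v ((m : ZMod (2 * m)) + 1)) 0 := by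
    refine (h.comm2 ht (D.std.orth hne) ?_ (D.hdv _)).congr rfl ?_ rfl
    · rw [herm_smul_right, D.hvd, mul_zero]
    · rw [herm_smul_right, D.hdd, mul_one]
  have heq : -(e ^ q) ≠ 0 := neg_ne_zero.2 (pow_ne_zero _ he)
  intro c
  by_cases hc : c = 0
  · exact (SM.one (hF := hF) (H := H) (D.std.iso 0)).congr rfl (by rw [hc, zero_smul]) rfl
  · obtain ⟨k, hk⟩ := hz1 ((c / -(e ^ q)) ^ q) (pow_ne_zero _ (div_ne_zero hc heq))
    have h2 := RS_mul (hu := D.std.iso 0) (hr := D.std.iso _) hS hz0 hS0 hS1 (mem_RS.2 h1) k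
    have e1 : (z ^ q * 1) ^ k * -(e ^ q) = c := by
      rw [mul_one, ← pow_mul, mul_comm q k, pow_mul, hk, pow_q_pow_q hF, div_mul_cancel₀ _ heq]
    rw [e1] at h2
    exact h2

omit [Fintype F] in
theorem ext [NeZero (2 * m)] {g h : SU (2 * m + 1) F q}
    (h1 : ∀ j, act g (D.v j) = act h (D.v j)) (h2 : act g D.d = act h D.d) : g = h := by
  apply D.W.ext (by rw [Fintype.card_option, ZMod.card])
  rintro (_ | j)
  · exact h2
  · exact h1 j

/-- The torus element. -/
theorem exists_S [NeZero m] [NeZero (2 * m)] (hF : Fintype.card F = q ^ 2) {z : F} (hz0 : z ≠ 0) :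
    ∃ S : SU (2 * m + 1) F q, (∀ j, act S (D.v j) = dg 0 z (z ^ q)⁻¹ j • D.v j) ∧
      act S D.d = (z ^ q * z⁻¹) • D.d := by
  have hzq : z ^ q ≠ 0 := pow_ne_zero _ hz0
  have hex : ∃ S : SU (2 * m + 1) F q, ∀ o : Option (ZMod (2 * m)),
      act S (D.u o) = (o.elim (z ^ q * z⁻¹) (fun j => dg 0 z (z ^ q)⁻¹ j) : F) •
        D.u ((1 : Equiv.Perm (Option (ZMod (2 * m)))) o) := by
    refine D.W.exists_mono hF (by rw [Fintype.card_option, ZMod.card]) 1 (fun _ => rfl) _ ?_ ?_
    · rintro (_ | j)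
      · simp only [Option.elim, sgO, Option.map_none]
        rw [mul_pow, pow_q_pow_q hF, inv_pow]
        field_simp
      · simp only [Option.elim, sgO, Option.map_some]
        apply dg_norm
        · rw [inv_pow, pow_q_pow_q hF, mul_inv_cancel₀ hz0]
        · exact inv_mul_cancel₀ hzq
    · rw [Fintype.prod_option]
      simp only [Option.elim, Equiv.Perm.sign_one, Units.val_one, Int.cast_one, one_mul]
      rw [dg_prod]
      field_simp
  obtain ⟨S, hS⟩ := hex
  exact ⟨S, fun j => hS (some j), hS none⟩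

omit [Fintype F] in
theorem conj_comm [NeZero (2 * m)] {S : SU (2 * m + 1) F q} {δ : ZMod (2 * m) → F} {c : F}
    (hS : ∀ j, act S (D.v j) = δ j • D.v j) (hSd : act S D.d = c • D.d) :
    (∀ j, act (D.w * S * D.w⁻¹) (D.v (j + 1)) = δ j • D.v (j + 1)) ∧
    act (D.w * S * D.w⁻¹) D.d = c • D.d ∧
    S * (D.w * S * D.w⁻¹) = (D.w * S * D.w⁻¹) * S := by
  have h1 : ∀ j, act (D.w * S * D.w⁻¹) (D.v (j + 1)) = δ j • D.v (j + 1) := fun j =>
    act_conj_eig one_ne_zero (D.hw' j) (hS j)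
  have h2 : act (D.w * S * D.w⁻¹) D.d = c • D.d := act_conj_eig D.he D.hwd' hSd
  refine ⟨h1, h2, ?_⟩
  apply D.W.comm_diag (by rw [Fintype.card_option, ZMod.card])
  · rintro (_ | j)
    · exact ⟨_, hSd⟩
    · exact ⟨_, hS j⟩
  · rintro (_ | j)
    · exact ⟨_, h2⟩
    · refine ⟨δ (j - 1), ?_⟩
      have := h1 (j - 1)
      rwa [sub_add_cancel] at this

/-- The Siegel element. -/
theorem exists_tau [NeZero m] (hF : Fintype.card F = q ^ 2) :
    ∃ μ : F, IsSiegel q (D.v 0) D.d μ := by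
  obtain ⟨μ, hμ⟩ := exists_trace_eq hF (c := (-1 : F)) (by rw [neg_pow_q hF, one_pow])
  exact ⟨μ, D.std.iso 0, D.hdv 0, by rw [D.hdd, hμ]; ring⟩

end Odd'

theorem two_gen_odd_big (hF : Fintype.card F = q ^ 2) (m : ℕ) (hm : 1 ≤ m) (hq : 3 ≤ q) :
    ∃ a b : SU (2 * m + 1) F q, Subgroup.closure ({a, b} : Set (SU (2 * m + 1) F q)) = ⊤ := by
  have : NeZero m := ⟨by omega⟩
  have : NeZero (2 * m) := ⟨by omega⟩
  obtain ⟨D⟩ := exists_odd (q := q) hF m
  obtain ⟨z, hz0, hz1, hz2⟩ := exists_gen hF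
  have hzq : z ^ q ≠ 0 := pow_ne_zero _ hz0
  have hqq : 3 * q ≤ q ^ 2 := by rw [pow_two]; exact Nat.mul_le_mul_right q hq
  obtain ⟨S, hS, hSd⟩ := D.exists_S hF hz0
  obtain ⟨hh, hhd, hcomm⟩ := D.conj_comm hS hSd
  have hh0 : act (D.w * S * D.w⁻¹) (D.v 0) = dg (m := m) 0 z (z ^ q)⁻¹ (-1) • D.v 0 := by
    have := hh (-1)
    rwa [neg_add_cancel] at this
  obtain ⟨μ, hk⟩ := D.exists_tau hF
  set t := siegel hF (D.v 0) D.d μ hk with ht
  refine ⟨S, t * D.w, ?_⟩
  set H := Subgroup.closure ({S, t * D.w} : Set (SU (2 * m + 1) F q)) with hH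
  have hSH : S ∈ H := Subgroup.subset_closure (by simp)
  have hyH : t * D.w ∈ H := Subgroup.subset_closure (by simp)
  have hnorm : (z ^ q * z⁻¹) * (z ^ q * z⁻¹) ^ q = 1 := by
    rw [mul_pow, pow_q_pow_q hF, inv_pow]
    field_simp
  obtain ⟨μ', h1, -⟩ := torus hSH hk hyH (hS 0) hSd hh0 hhd (Or.inl ⟨hnorm, hnorm⟩) hcomm
  rw [dg_self] at h1
  have hpow : ∀ k l : ℕ, l < k → k - l < q ^ 2 - 1 → z ^ k ≠ z ^ l := by
    intro k l hkl hlt h
    refine hz2 (k - l) (by omega) hlt ?_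
    have h4 : z ^ (k - l) * z ^ l = 1 * z ^ l := by
      rw [← pow_add, Nat.sub_add_cancel hkl.le, h, one_mul]
    exact mul_right_cancel₀ (pow_ne_zero _ hz0) h4
  have hane : z ^ q * (z ^ q * z⁻¹) ≠ 1 := by
    intro h
    apply hpow (q + q) 1 (by omega) (by omega)
    rw [pow_one, pow_add]
    have := congrArg (fun t => t * z) h
    simp only [mul_assoc, inv_mul_cancel₀ hz0, mul_one, one_mul] at this
    exact this
  have hcne : dg (m := m) 0 z (z ^ q)⁻¹ (-1) ^ q * (z ^ q * z⁻¹) ≠ 1 := by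
    by_cases hm1 : m = 1
    · have e : (-1 : ZMod (2 * m)) = 0 + (m : ZMod (2 * m)) := by
        have h5 : (m : ZMod (2 * m)) = 1 := by
          have : ((m : ℕ) : ZMod (2 * m)) = ((1 : ℕ) : ZMod (2 * m)) := congrArg _ hm1
          rw [this]; norm_num
        have h6 := two_half (m := m)
        rw [h5] at h6
        rw [h5]
        linear_combination -h6
      rw [e, dg_half, inv_pow, pow_q_pow_q hF]
      intro h
      apply hpow q 2 (by omega) (by omega)
      have := congrArg (fun t => t * z * z) h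
      field_simp at this
      rw [pow_two]
      linear_combination this
    · have e : dg 0 z (z ^ q)⁻¹ (-1 : ZMod (2 * m)) = 1 := by
        have hneg : (-1 : ZMod (2 * m)) = ((2 * m - 1 : ℕ) : ZMod (2 * m)) := by
          rw [Nat.cast_sub (by omega), ZMod.natCast_self]; simp
        rw [dg_other]
        · rw [hneg, ← Nat.cast_zero, Ne, cast_inj (by omega) (by omega)]; omega
        · rw [zero_add, hneg, Ne, cast_inj (by omega) (by omega)]; omega
      rw [e, one_pow, one_mul]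
      intro h
      apply hpow q 1 (by omega) (by omega)
      rw [pow_one]
      have := congrArg (fun t => t * z) h
      simp only [mul_assoc, inv_mul_cancel₀ hz0, mul_one, one_mul] at this
      exact this
  have hne0 : (z ^ q * (z ^ q * z⁻¹) - 1) * (1 - dg (m := m) 0 z (z ^ q)⁻¹ (-1) ^ q * (z ^ q * z⁻¹)) ≠ 0 :=
    mul_ne_zero (sub_ne_zero.2 hane) (sub_ne_zero.2 (Ne.symm hcne))
  -- all multiples of `d`
  have hall : ∀ a : F, a • D.d ∈ WS hF H (D.v 0) (D.std.iso 0) := by
    let Y : AddSubgroup F :=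
      { carrier := {a | a • D.d ∈ WS hF H (D.v 0) (D.std.iso 0)}
        zero_mem' := by
          show (0 : F) • D.d ∈ WS hF H (D.v 0) (D.std.iso 0)
          rw [zero_smul]; exact AddSubgroup.zero_mem _
        add_mem' := fun {a b} ha hb => by
          show (a + b) • D.d ∈ WS hF H (D.v 0) (D.std.iso 0)
          rw [add_smul]; exact AddSubgroup.add_mem _ ha hb
        neg_mem' := fun {a} ha => by
          show (-a) • D.d ∈ WS hF H (D.v 0) (D.std.iso 0)
          rw [neg_smul]; exact AddSubgroup.neg_mem _ ha }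
    have hY : ∀ a, a ∈ Y ↔ a • D.d ∈ WS hF H (D.v 0) (D.std.iso 0) := fun a => Iff.rfl
    intro a
    rw [← hY]
    refine mem_of_cube Y ?_ ⟨z, hz0, hz2 3 (by omega) (by omega)⟩ ((hY _).2 ⟨_, h1⟩) hne0 a
    intro c hc0 y hy
    obtain ⟨k, hk⟩ := hz1 c hc0
    have h3 := WS_mul hSH (s := z) (s' := z ^ q * z⁻¹) hz0
      (by rw [hS 0, dg_self]) hSd ((hY y).1 hy) ((2 * q + 1) * k)
    have e : (z ^ q * (z ^ q * z⁻¹)) ^ ((2 * q + 1) * k) = c ^ 3 := by
      rw [pow_mul, ← hk, ← pow_mul z k 3, mul_comm k 3, pow_mul z 3 k]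
      congr 1
      have e1 : (z ^ q * (z ^ q * z⁻¹)) ^ (2 * q + 1) * z ^ (2 * q + 1) =
          z ^ 3 * z ^ (2 * q + 1) := by
        rw [← mul_pow]
        have : z ^ q * (z ^ q * z⁻¹) * z = z ^ q * z ^ q := by field_simp
        rw [this, pow_succ, mul_comm 2 q, pow_mul, mul_pow (z ^ q) (z ^ q) q, pow_q_pow_q hF,
          pow_succ z (q * 2), pow_mul]
        ring
      exact mul_right_cancel₀ (pow_ne_zero _ hz0) e1
    rw [e] at h3
    exact (hY _).2 h3
  -- the centre
  have hcen : ∀ ν : F, ν + ν ^ q = 0 → SM hF H (D.v 0) 0 ν := fun ν hν =>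
    SM.center (w := D.d) (w' := D.d) one_ne_zero (D.std.iso 0) hall
      (by have := hall 1; rwa [one_smul] at this) D.hdd hν
  have htau : SM hF H (D.v 0) D.d μ := by
    obtain ⟨ν, hν⟩ := hall 1
    rw [one_smul] at hν
    have h3 : SM hF H (D.v 0) 0 (μ - ν) := by
      apply hcen
      obtain ⟨k', -⟩ := hν
      rw [sub_pow_q hF]
      linear_combination hk.tr - k'.tr
    refine (hν.mul h3).congr rfl (add_zero _) ?_
    rw [herm_zero_left]
    ring
  have htH : t ∈ H := by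
    obtain ⟨k', hk'⟩ := htau
    exact hk'
  have hwH : D.w ∈ H := by
    have := H.mul_mem (H.inv_mem htH) hyH
    rwa [inv_mul_cancel_left] at this
  apply D.finish hwH hall
  by_cases hm1 : m = 1
  · exact Or.inl hm1
  · refine Or.inr ⟨by omega, D.R_of_tau (by omega) hwH htau hSH hz0 hz1 (by rw [hS 0, dg_self]) ?_⟩
    rw [hS, dg_other]
    · rw [← Nat.cast_one, ← Nat.cast_add, ← Nat.cast_zero, Ne, cast_inj (by omega) (by omega)]
      omega
    · rw [zero_add, ← Nat.cast_one, ← Nat.cast_add, Ne, cast_inj (by omega) (by omega)]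
      omega

end Cfsg.Agent.H137.Herm
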