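import Mathlib
import Cfsg.Agent.H137.HermOdd

/-!
# Two elements generating `SU` in odd dimension at least five over the field with four elements (helper137)
-/

set_option autoImplicit false

namespace Cfsg.Agent.H137.Herm

open Cfsg Cfsg.Agent.LieClassical.HermBasic Cfsg.Agent.LieClassical.HermSiegel
  Cfsg.Agent.LieClassical.HermGen Matrix

/-- Commuting elements of coprime orders are powers of their product. -/
theorem mem_of_mul_cop {G : Type*} [Group G] {H : Subgroup G} {a b : G} (h : Commute a b) {m n : ℕ}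
    (hmn : Nat.Coprime m n) (ha : a ^ m = 1) (hb : b ^ n = 1) (hab : a * b ∈ H) :
    a ∈ H ∧ b ∈ H := by
  have key : b ∈ H := by
    obtain ⟨u, v, huv⟩ := Nat.isCoprime_iff_coprime.2 hmn
    have h1 : (a * b) ^ m ∈ H := H.pow_mem hab m
    rw [h.mul_pow, ha, one_mul] at h1
    have h2 : b = (b ^ m) ^ u := by
      calc b = b ^ (u * (m : ℤ) + v * (n : ℤ)) := by rw [huv, zpow_one]
        _ = (b ^ m) ^ u * (b ^ n) ^ v := by
            rw [_root_.zpow_add, mul_comm u, mul_comm v, _root_.zpow_mul, _root_.zpow_mul, zpow_natCast,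
              zpow_natCast]
        _ = (b ^ m) ^ u := by rw [hb, _root_.one_zpow, mul_one]
    rw [h2]
    exact H.zpow_mem h1 u
  refine ⟨?_, key⟩
  have := H.mul_mem hab (H.inv_mem key)
  rwa [mul_inv_cancel_right] at this

variable {F : Type*} [Field F] [Fintype F]

theorem two_gen_odd_two (hF : Fintype.card F = 2 ^ 2) (m : ℕ) (hm : 2 ≤ m) :
    ∃ a b : SU (2 * m + 1) F 2, Subgroup.closure ({a, b} : Set (SU (2 * m + 1) F 2)) = ⊤ := by
  have : NeZero m := ⟨by omega⟩
  have : NeZero (2 * m) := ⟨by omega⟩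
  obtain ⟨D⟩ := exists_odd (q := 2) hF m
  obtain ⟨z, hz0, hz1, hz2⟩ := exists_gen hF
  have hz3 : z ^ 3 = 1 := by
    have := FiniteField.pow_card_sub_one_eq_one z hz0
    rwa [hF] at this
  have h2F : (2 : F) = 0 := by
    have h : ((Fintype.card F : ℕ) : F) = 0 := FiniteField.cast_card_eq_zero F
    rw [hF] at h
    push_cast at h
    have h' : (2 : F) * 2 = 0 := by linear_combination h
    exact mul_self_eq_zero.1 h'
  have hzz : z ^ 2 = z⁻¹ := by
    apply eq_inv_of_mul_eq_one_left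
    rw [← pow_succ, hz3]
  obtain ⟨S, hS, hSd⟩ := D.exists_S hF hz0
  obtain ⟨μ, hk⟩ := D.exists_tau hF
  set t := siegel hF (D.v 0) D.d μ hk with ht
  have hSt : SE hF t (D.v 0) D.d μ := ⟨hk, rfl⟩
  have hS0 : act S (D.v 0) = z • D.v 0 := by rw [hS 0, dg_self]
  -- orders
  have hS3 : S ^ 3 = 1 := by
    apply D.ext
    · intro j
      rw [act_pow_eig (hS j), dg_pow, hz3, inv_pow, ← pow_mul, mul_comm 2 3, pow_mul, hz3,
        one_pow, inv_one, dg_one, act_one, one_smul]
    · rw [act_pow_eig hSd, mul_pow, ← pow_mul, mul_comm 2 3, pow_mul, hz3, one_pow, inv_pow, hz3,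
        act_one]
      simp
  have ht4 : t ^ 4 = 1 := by
    have h1 := (hSt.mul hSt).mul (hSt.mul hSt)
    have hdd2 : D.d + D.d + (D.d + D.d) = 0 := by
      funext i
      simp only [Pi.add_apply, Pi.zero_apply]
      linear_combination (2 * D.d i) * h2F
    have h3 : SE hF (t * t * (t * t)) (D.v 0) 0 0 := by
      refine h1.congr rfl hdd2 ?_
      simp only [herm_add_left, herm_add_right hF]
      linear_combination (2 * μ - 3 * hermForm (2 * m + 1) F 2 D.d D.d) * h2F
    obtain ⟨k3, h3⟩ := h3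
    rw [siegel_zero] at h3
    calc t ^ 4 = t * t * (t * t) := by rw [← pow_two, ← pow_two, ← pow_mul]
      _ = 1 := h3
  have hcomm : Commute S t := by
    have hnorm : (z ^ 2 * z⁻¹) * (z ^ 2 * z⁻¹) ^ 2 = 1 := by
      rw [hzz, ← pow_succ', mul_pow, inv_pow, hz3]; simp
    have h1 := hSt.conj_eig (a := S) hS0 hSd (Or.inl hnorm)
    have h3 : SE hF (S * t * S⁻¹) (D.v 0) D.d μ := by
      refine h1.congr rfl ?_ ?_
      · have : z ^ 2 * (z ^ 2 * z⁻¹) = 1 := by
          rw [hzz, ← mul_assoc, ← pow_two, ← pow_succ, inv_pow, hz3, inv_one]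
        rw [this, one_smul]
      · rw [← pow_succ', hz3, one_mul]
    obtain ⟨k3, h3⟩ := h3
    have h4 : S * t * S⁻¹ = t := h3
    exact mul_inv_eq_iff_eq_mul.1 h4
  refine ⟨S * t, D.w, ?_⟩
  set H := Subgroup.closure ({S * t, D.w} : Set (SU (2 * m + 1) F 2)) with hH
  have hyH : S * t ∈ H := Subgroup.subset_closure (by simp)
  have hwH : D.w ∈ H := Subgroup.subset_closure (by simp)
  obtain ⟨hSH, htH⟩ := mem_of_mul_cop hcomm (by norm_num : Nat.Coprime 3 4) hS3 ht4 hyH
  have htau : SM hF H (D.v 0) D.d μ := ⟨hk, htH⟩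
  have hone : (1 : ZMod (2 * m)) = ((1 : ℕ) : ZMod (2 * m)) := Nat.cast_one.symm
  have hR : R hF H D.v 0 ((m : ZMod (2 * m)) + 1) := by
    refine D.R_of_tau hm hwH htau hSH hz0 hz1 hS0 ?_
    rw [hS, dg_other]
    · rw [hone, ← Nat.cast_add, ← Nat.cast_zero, Ne, cast_inj (by omega) (by omega)]
      omega
    · rw [zero_add, hone, ← Nat.cast_add, Ne, cast_inj (by omega) (by omega)]
      omega
  have h10 : (1 : ZMod (2 * m)) ≠ 0 := by
    rw [hone, ← Nat.cast_zero, Ne, cast_inj (by omega) (by omega)]; omega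
  have h1m : (1 : ZMod (2 * m)) ≠ 0 + (m : ZMod (2 * m)) := by
    rw [zero_add, hone, Ne, cast_inj (by omega) (by omega)]; omega
  have hR1 : R hF H D.v 0 1 :=
    R.all hm D.std hwH (fun _ => one_ne_zero) D.hw' hR 0 1 h10 h1m
  refine D.finish hwH ?_ (Or.inr ⟨hm, hR⟩)
  -- all multiples of `d`
  obtain ⟨e, he, B⟩ := D.shift_tau hwH htau 1
  rw [Nat.cast_one] at B
  obtain ⟨kB, hB⟩ := B
  intro b
  set a := b / e with ha
  have h1 := (hR a).conj hB
  have e1 : act (siegel hF (D.v 1) (e • D.d) μ kB) (D.v 0) = D.v 0 := by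
    apply act_siegel_of_orth
    · exact D.std.orth h1m
    · rw [herm_smul_right, D.hvd, mul_zero]
  have hpair : hermForm (2 * m + 1) F 2 (D.v ((m : ZMod (2 * m)) + 1)) (D.v 1) = 1 := by
    have := D.std.pair' 1
    rwa [add_comm (1 : ZMod (2 * m)) (m : ZMod (2 * m))] at this
  have e2 : act (siegel hF (D.v 1) (e • D.d) μ kB) (a • D.v ((m : ZMod (2 * m)) + 1)) =
      a • D.v ((m : ZMod (2 * m)) + 1) + b • D.d + (μ * a) • D.v 1 := by
    rw [act_siegel, herm_smul_left, herm_smul_left, hpair, herm_smul_right, D.hvd, smul_smul,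
      mul_one, mul_zero, mul_zero, sub_zero, ha, div_mul_cancel₀ _ he]
  rw [e1, e2] at h1
  have h2 : a • D.v ((m : ZMod (2 * m)) + 1) + b • D.d + (μ * a) • D.v 1 ∈
      WS hF H (D.v 0) (D.std.iso 0) := ⟨_, h1⟩
  have h3 : a • D.v ((m : ZMod (2 * m)) + 1) ∈ WS hF H (D.v 0) (D.std.iso 0) := ⟨_, hR a⟩
  have h4 : (μ * a) • D.v 1 ∈ WS hF H (D.v 0) (D.std.iso 0) := ⟨_, hR1 _⟩
  have h5 := AddSubgroup.sub_mem _ (AddSubgroup.sub_mem _ h2 h4) h3
  have e3 : a • D.v ((m : ZMod (2 * m)) + 1) + b • D.d + (μ * a) • D.v 1 - (μ * a) • D.v 1 -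
      a • D.v ((m : ZMod (2 * m)) + 1) = b • D.d := by abel
  rwa [e3] at h5

/-- `SU n F q` is generated by two elements for `n ≥ 3`, `(n, q) ≠ (3, 2)`. -/
theorem two_gen_SU {q : ℕ} (hF : Fintype.card F = q ^ 2) (n : ℕ) (hn : 3 ≤ n)
    (h32 : n = 3 → q ≠ 2) :
    ∃ a b : SU n F q, Subgroup.closure ({a, b} : Set (SU n F q)) = ⊤ := by
  have h2 := two_le hF
  rcases Nat.even_or_odd' n with ⟨m, h | h⟩
  · subst h
    exact two_gen_even hF m (by omega)
  · subst h
    by_cases hq : q = 2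
    · subst hq
      have : m ≠ 1 := fun hm => h32 (by omega) rfl
      exact two_gen_odd_two hF m (by omega)
    · exact two_gen_odd_big hF m (by omega) (by omega)

end Cfsg.Agent.H137.Herm
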